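import Cfsg.Agent.H964.Opm.Nsc

/-!
# S3500-OPM: `PΩ8+(3)` has two classes of elements of order 13 under its automorphism group (helper964)

The semisimilitudes induce a subgroup of index 3 (odd). If all elements of order 13 were conjugate, a 2-element of the
automorphism group, and then a semisimilitude, would act as `x ↦ x ^ 5` (up to inverses) on a subgroup of order 13, and
all the 12 primitive roots of unity would be eigenvalues.
-/

set_option autoImplicit false
set_option linter.unusedVariables false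

namespace Cfsg.Agent.H964.Opm

open Cfsg Cfsg.Agent.H439.Der
open Cfsg.Agent.LieClassical.OrthCore Cfsg.Agent.LieClassical.OrthTrans Cfsg.Agent.LieClassical.OrthForms
  Cfsg.Agent.ClassicalGeometry.OrthAut1 Cfsg.Agent.ClassicalGeometry.OrthSemi
  Cfsg.Agent.ClassicalGeometry.OrthSemiForms
open Module Polynomial

/-- a 2-element of a group fixes a coset of a subgroup of index 3 -/
theorem exists_conj_mem {A : Type*} [Group A] [Finite A] (R : Subgroup A) (hR : R.index = 3) (ψ : A) {a : ℕ}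
    (hψ : ψ ^ 2 ^ a = 1) : ∃ g : A, g⁻¹ * ψ * g ∈ R := by
  have h2 : Fact (Nat.Prime 2) := ⟨Nat.prime_two⟩
  have hP : IsPGroup 2 ↥(Subgroup.zpowers ψ) := by
    rintro ⟨y, k, rfl⟩
    refine ⟨a, Subtype.ext ?_⟩
    show (ψ ^ k) ^ 2 ^ a = 1
    rw [← zpow_natCast, ← zpow_mul, mul_comm, zpow_mul, zpow_natCast, hψ, one_zpow]
  have hfix := hP.nonempty_fixed_point_of_prime_not_dvd_card (A ⧸ R) (by
    have : Nat.card (A ⧸ R) = 3 := hR
    rw [this]
    norm_num)
  obtain ⟨c, hc⟩ := hfix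
  obtain ⟨g, rfl⟩ := QuotientGroup.mk_surjective c
  refine ⟨g, ?_⟩
  have h1 := hc ⟨ψ, Subgroup.mem_zpowers ψ⟩
  have h3 : (QuotientGroup.mk (ψ * g) : A ⧸ R) = QuotientGroup.mk g := h1
  rw [eq_comm, QuotientGroup.eq] at h3
  rwa [mul_assoc]

/-- the 2-part of an element -/
theorem exists_two_part {A : Type*} [Group A] [Finite A] (φ : A) : ∃ r a : ℕ, Odd r ∧ (φ ^ r) ^ 2 ^ a = 1 := by
  obtain ⟨a, r, hr, h⟩ := Nat.exists_eq_two_pow_mul_odd (n := orderOf φ) (orderOf_pos φ).ne'
  exact ⟨r, a, hr, by rw [← pow_mul, mul_comm, ← h, pow_orderOf_eq_one]⟩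

section roots

variable {F V : Type*} [Field F] [Fintype F] [AddCommGroup V] [Module F V] [FiniteDimensional F V]
  {Q : QuadraticForm F V}

theorem pow_mod_13 {r : ℕ} (hr : Odd r) : 5 ^ r % 13 = 5 ∨ 5 ^ r % 13 = 8 := by
  obtain ⟨k, rfl⟩ := hr
  rw [pow_succ, pow_mul]
  have h1 : (5 ^ 2) ^ k % 13 = 1 ∨ (5 ^ 2) ^ k % 13 = 12 := by
    induction k with
    | zero => left; norm_num
    | succ k ih =>
      rw [pow_succ, Nat.mul_mod]
      rcases ih with h | h <;> rw [h] <;> norm_num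
  rw [Nat.mul_mod]
  rcases h1 with h | h <;> rw [h] <;> norm_num

/-- no semisimilitude acts as `x ↦ x ^ 5` or `x ↦ x ^ 8` on an element of order 13 -/
theorem no_psi (hG : Good Q) (hF : Fintype.card F = 3) (hd : finrank F V < 12) {x : P Q} (hx : orderOf x = 13) {r : ℕ}
    (hr : Odd r) {M : Gam Q} (hM : Psi Q M x = x ^ (5 ^ r)) : False := by
  classical
  have h13 : Nat.Prime 13 := by norm_num
  have hodd : Odd 13 := by decide
  obtain ⟨X, rfl, hX⟩ := exists_lift hG hodd (x := x) (by rw [← hx]; exact pow_orderOf_eq_one x)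
  have hX1 : lin X ≠ 1 := by
    intro h
    have h1 : X = 1 := lin_injective h
    rw [h1, QuotientGroup.mk_one, orderOf_one] at hx
    norm_num at hx
  have : Fact (Nat.Prime 3) := ⟨Nat.prime_three⟩
  have hchar : CharP F 3 := by
    obtain ⟨q, hq⟩ := CharP.exists F
    obtain ⟨n, hqp, hn⟩ := FiniteField.card F q
    rw [hF] at hn
    have : q ∣ 3 := by rw [hn]; exact dvd_pow_self _ n.pos.ne'
    rw [← (Nat.prime_dvd_prime_iff_eq hqp Nat.prime_three).1 this]
    exact hq
  have h13F : ((13 : ℕ) : F) ≠ 0 := by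
    intro h
    have := (CharP.cast_eq_zero_iff F 3 13).1 h
    norm_num at this
  obtain ⟨ζ, hζ, hζv, hζ1⟩ := exists_root (by norm_num) (g := lin X) (by rw [← lin_pow, hX]; rfl) hX1 h13F
    (AlgebraicClosure F)
  have hord : orderOf ζ = 13 := by
    have : Fact (Nat.Prime 13) := ⟨h13⟩
    exact orderOf_eq_prime hζv hζ1
  obtain ⟨μ, hμ⟩ : ∃ μ, minpoly F (lin X) = μ := ⟨_, rfl⟩
  rw [hμ] at hζ
  have hσ : ∀ σ : F ≃+* F, (σ : F →+* F) = RingHom.id F := by
    intro σ
    have hc : Nat.card (F ≃+* F) = 1 :=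
      Cfsg.Agent.Lib.FieldAutCard.card_ringAut (p := 3) (f := 1) le_rfl (by rw [hF]; norm_num)
    have hs : Subsingleton (F ≃+* F) := (Nat.card_eq_one_iff_unique.1 hc).1
    rw [Subsingleton.elim σ (RingEquiv.refl F)]
    rfl
  obtain ⟨R, hR⟩ : ∃ R : ℕ → Prop, ∀ s, R s ↔ aeval (ζ ^ s) μ = 0 := ⟨_, fun _ => Iff.rfl⟩
  have hmod : ∀ s, R (s % 13) → R s := by
    intro s h
    have : ζ ^ s = ζ ^ (s % 13) := by rw [← hord, pow_mod_orderOf]
    rw [hR] at h ⊢
    rw [this]; exact h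
  have hmod' : ∀ s, R s → R (s % 13) := by
    intro s h
    have : ζ ^ s = ζ ^ (s % 13) := by rw [← hord, pow_mod_orderOf]
    rw [hR] at h ⊢
    rw [← this]; exact h
  have h1 : R 1 := by rw [hR, pow_one]; exact hζ
  have h3 : ∀ s, R s → R (3 * s % 13) := by
    intro s hs
    apply hmod'
    have h4 : aeval ((ζ ^ s) ^ 3) μ = 0 := by
      have : CharP (AlgebraicClosure F) 3 := charP_of_injective_algebraMap (algebraMap F _).injective 3
      have h5 := congrArg (frobenius (AlgebraicClosure F) 3) ((hR s).1 hs)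
      rw [map_zero] at h5
      rw [aeval_def, eval₂_eq_sum_range] at h5 ⊢
      rw [map_sum] at h5
      rw [← h5]
      refine Finset.sum_congr rfl fun i _ => ?_
      rw [map_mul, map_pow, frobenius_def, frobenius_def, ← map_pow, show μ.coeff i ^ 3 = μ.coeff i from by
        rw [← hF]; exact FiniteField.pow_card _]
    rw [← pow_mul, mul_comm] at h4
    exact (hR _).2 h4
  have hr' : ∀ s, R s → R (5 ^ r * s) := by
    intro s hs
    obtain ⟨σ, c, hc⟩ := M.2
    have h4 := root_of_psi hG hodd hX hc hM (ζ := ζ ^ s) (by rw [hμ]; exact (hR s).1 hs)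
    rw [hμ, hσ, Polynomial.map_id, ← pow_mul, mul_comm] at h4
    exact (hR _).2 h4
  have h5 : ∀ s, R s → R (5 * s % 13) := by
    intro s hs
    rcases pow_mod_13 hr with h | h
    · have h7 := hmod' _ (hr' s hs)
      have e : 5 ^ r * s % 13 = 5 * s % 13 := Nat.ModEq.mul_right s (show 5 ^ r ≡ 5 [MOD 13] from h)
      rwa [e] at h7
    · have h7 := hmod' _ (hr' _ (hr' _ (hr' s hs)))
      have e : 5 ^ r * (5 ^ r * (5 ^ r * s)) % 13 = 5 * s % 13 := by
        have e1 : 5 ^ r * (5 ^ r * (5 ^ r * s)) = (5 ^ r * 5 ^ r * 5 ^ r) * s := by ring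
        have e2 : 5 ^ r ≡ 8 [MOD 13] := h
        rw [e1]
        exact Nat.ModEq.mul_right s (((e2.mul e2).mul e2).trans (show 8 * 8 * 8 ≡ 5 [MOD 13] by decide))
      rwa [e] at h7
  have h3' := h3 1 h1
  have h9 := h3 _ h3'
  have g5 := h5 1 h1
  have g2 := h3 _ g5
  have g6 := h3 _ g2
  have g12 := h5 _ g5
  have g10 := h3 _ g12
  have g4 := h3 _ g10
  have g8 := h5 _ g12
  have g11 := h3 _ g8
  have g7 := h3 _ g11
  norm_num at h3' h9 g5 g2 g6 g12 g10 g4 g8 g11 g7
  have hall : ∀ s ∈ Finset.Icc 1 12, R s := by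
    intro s hs
    rw [Finset.mem_Icc] at hs
    obtain ⟨hs1, hs2⟩ := hs
    interval_cases s <;> assumption
  have hμ0 : μ ≠ 0 := by rw [← hμ]; exact minpoly.ne_zero (Algebra.IsIntegral.isIntegral _)
  have hcard : (Finset.Icc 1 12).card ≤ (μ.aroots (AlgebraicClosure F)).toFinset.card := by
    refine Finset.card_le_card_of_injOn (fun j => ζ ^ j) ?_ ?_
    · intro j hj
      rw [Finset.mem_coe, Multiset.mem_toFinset, Polynomial.mem_aroots]
      exact ⟨hμ0, (hR j).1 (hall j hj)⟩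
    · intro i hi j hj hij
      rw [Finset.mem_coe, Finset.mem_Icc] at hi hj
      exact pow_injOn_Iio_orderOf (by rw [Set.mem_Iio, hord]; omega) (by rw [Set.mem_Iio, hord]; omega) hij
  have hle : (μ.aroots (AlgebraicClosure F)).toFinset.card ≤ finrank F V := by
    refine (Multiset.toFinset_card_le _).trans ((Polynomial.card_roots' _).trans (Polynomial.natDegree_map_le.trans ?_))
    have h1 := LinearMap.minpoly_dvd_charpoly (lin X)
    have h2 := Polynomial.natDegree_le_of_dvd h1 (LinearMap.charpoly_monic (lin X)).ne_zero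
    rwa [LinearMap.charpoly_natDegree, hμ] at h2
  rw [Nat.card_Icc] at hcard
  omega

end roots

variable {F : Type} [Field F] [Fintype F] {m : ℕ}

theorem not_SC_13 (hF : Fintype.card F = 3) (hd : 13 ∣ Nat.card (Cfsg.POmega F (Cfsg.quadFormPlus 4 F))) :
    ¬ SC (Cfsg.POmega F (Cfsg.quadFormPlus 4 F)) 13 := by
  have hG := good_plus (F := F) (m := 4) (by norm_num)
  rw [← coe_plusForm] at hd ⊢
  intro hsc
  have h := hsc.congr (pomegaEquiv hG)
  have h13 : Fact (Nat.Prime 13) := ⟨by norm_num⟩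
  have hfin0 : Finite (Cfsg.POmega F ⇑(plusForm 4 F)) := finite_POmega _
  have hfin : Finite (P (plusForm 4 F)) := Finite.of_equiv _ (pomegaEquiv hG).toEquiv
  have hfA : Finite (MulAut (P (plusForm 4 F))) :=
    Finite.of_injective (fun f : MulAut (P (plusForm 4 F)) => (f : _ → _)) DFunLike.coe_injective
  rw [Nat.card_congr (pomegaEquiv hG).toEquiv] at hd
  obtain ⟨x, hx⟩ := exists_prime_orderOf_dvd_card' 13 hd
  have hx5 : orderOf (x ^ 5) = 13 := by
    rw [orderOf_pow' _ (by norm_num), hx]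
    norm_num
  obtain ⟨φ, hφ⟩ := h x (x ^ 5) (by rw [hx]) (by rw [hx5])
  obtain ⟨r, a, hr, ha⟩ := exists_two_part (φ : MulAut (P (plusForm 4 F)))
  obtain ⟨g, hg⟩ := exists_conj_mem (Psi (plusForm 4 F)).range Cfsg.Agent.AutOrth.Final.index_plus_four _ ha
  obtain ⟨M, hM⟩ := hg
  have hpow : ∀ n : ℕ, ((φ : MulAut (P (plusForm 4 F))) ^ n) x = x ^ (5 ^ n) := by
    intro n
    induction n with
    | zero => simp
    | succ n ih =>
      rw [pow_succ', MulAut.mul_apply, ih]
      have : (φ : MulAut (P (plusForm 4 F))) (x ^ 5 ^ n) = (φ x) ^ 5 ^ n := map_pow φ _ _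
      rw [this, hφ, ← pow_mul, ← pow_succ']
  refine no_psi hG hF (by
    rw [Module.finrank_fintype_fun_eq_card, Fintype.card_sum, Fintype.card_fin]; norm_num)
    (x := g⁻¹ x) ?_ hr (M := M) ?_
  · rw [← hx]
    exact orderOf_injective (g⁻¹ : MulAut (P (plusForm 4 F))).toMonoidHom (g⁻¹).injective x
  · rw [hM, MulAut.mul_apply, MulAut.mul_apply]
    have e1 : g (g⁻¹ x) = x := by rw [← MulAut.mul_apply, mul_inv_cancel]; rfl
    rw [e1, hpow, map_pow]

/-- **`NSC` for the plus type** -/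
theorem nsc_plus (hm : 4 ≤ m) (hex : ¬ (m = 4 ∧ Fintype.card F = 2)) :
    NSC (Cfsg.POmega F (Cfsg.quadFormPlus m F)) := by
  intro v hv hd
  by_cases h : m = 4 ∧ Fintype.card F = 3 ∧ v = 13
  · obtain ⟨rfl, hF, rfl⟩ := h
    exact not_SC_13 hF hd
  · exact nsc_plus_aux hm hex hv hd h

end Cfsg.Agent.H964.Opm
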