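import Cfsg.Agent.H72.AdjOrth

/-!
# S3500-OPM: elements of order divisible by `v` and different from `v` in `PΩ^±_{2m}(q)` (helper964)
-/

set_option autoImplicit false
set_option linter.unusedVariables false

namespace Cfsg.Agent.H964.Opm

open Cfsg.Agent.H377 Cfsg.Agent.H72.AdjOrth

/-! ### numbers -/

theorem two_pow_bd {t : ℕ} (ht : 4 ≤ t) : 5 * t + 6 ≤ 2 * 2 ^ t := by
  obtain ⟨s, rfl⟩ := Nat.exists_eq_add_of_le ht
  induction s with
  | zero => norm_num
  | succ s ih =>
    have := ih (by omega)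
    rw [show 4 + (s + 1) = (4 + s) + 1 by ring, pow_succ]
    omega

theorem three_pow_bd {t : ℕ} (ht : 3 ≤ t) : 16 * t + 12 ≤ 3 * 3 ^ t := by
  obtain ⟨s, rfl⟩ := Nat.exists_eq_add_of_le ht
  induction s with
  | zero => norm_num
  | succ s ih =>
    have := ih (by omega)
    rw [show 3 + (s + 1) = (3 + s) + 1 by ring, pow_succ]
    omega

/-- even `q`, `a ≥ 4` -/
theorem bd_even {q f a : ℕ} (hf : 1 ≤ f) (hq : 2 ^ f ≤ q) (ha : 4 ≤ a) : 2 * (a + 1) * f + 3 ≤ q ^ a := by
  have h1 : (2 ^ f) ^ a ≤ q ^ a := Nat.pow_le_pow_left hq a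
  rw [← pow_mul] at h1
  have h2 : 4 ≤ f * a := by nlinarith
  have h3 := two_pow_bd h2
  have h4 : 4 * f ≤ f * a := by nlinarith
  have h5 : 2 * (a + 1) * f = 2 * (f * a) + 2 * f := by ring
  omega

/-- odd `q`, `a ≥ 3` -/
theorem bd_odd {q f a : ℕ} (hf : 1 ≤ f) (hq : 3 ^ f ≤ q) (ha : 3 ≤ a) : 4 * (a + 1) * f + 4 ≤ q ^ a := by
  have h1 : (3 ^ f) ^ a ≤ q ^ a := Nat.pow_le_pow_left hq a
  rw [← pow_mul] at h1
  have h2 : 3 ≤ f * a := by nlinarith
  have h3 := three_pow_bd h2
  have h4 : 3 * f ≤ f * a := by nlinarith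
  have h5 : 4 * (a + 1) * f = 4 * (f * a) + 4 * f := by ring
  omega

theorem eta_le (k : ℕ) : eta k ≤ k := by
  rw [eta]
  split_ifs
  · omega
  · exact le_rfl

/-- the two types -/
theorem type_cases {q v : ℕ} (hq : 1 ≤ q) (hv : v.Prime) (hvq : ¬ v ∣ q) :
    (sg (ee q v) = 1 ∧ v ∣ q ^ eta (ee q v) - 1 ∧ ¬ Even (ee q v)) ∨
      (sg (ee q v) = -1 ∧ v ∣ q ^ eta (ee q v) + 1 ∧ Even (ee q v)) := by
  have h1 := dvd_tn (q := q) hq hv hvq
  rw [tn] at h1
  by_cases h : Even (ee q v)
  · right
    rw [if_pos h] at h1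
    refine ⟨?_, ?_, h⟩
    · rw [sg, if_pos h]
    · rw [eta, if_pos h]; exact h1
  · left
    rw [if_neg h] at h1
    refine ⟨?_, ?_, h⟩
    · rw [sg, if_neg h]
    · rw [eta, if_neg h]; exact h1

theorem not_dvd_small {q v : ℕ} (hq : 1 ≤ q) (h3 : 3 ≤ eta (ee q v)) : ¬ v ∣ q + 1 ∧ ¬ v ∣ q - 1 := by
  have key : ¬ v ∣ q ^ 2 - 1 := by
    intro h
    have h1 := Nat.le_of_dvd (by norm_num) (ee_dvd hq h)
    have h2 := eta_le (ee q v)
    omega
  have hfac : q ^ 2 - 1 = (q + 1) * (q - 1) := by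
    have := Nat.sq_sub_sq q 1
    rw [one_pow] at this
    exact this
  rw [hfac] at key
  exact ⟨fun h => key (Dvd.dvd.mul_right h _), fun h => key (Dvd.dvd.mul_left h _)⟩

/-! ### elements -/

section elts

variable {F : Type*} [Field F] [Finite F]

/-- a block and a minus plane -/
theorem plane_trick {a : ℕ} (ha : 1 ≤ a) {s : ℤ} {v : ℕ} (hv : v.Prime) (hv2 : v ≠ 2) (hE : Elt F a s v)
    (hco : ¬ v ∣ Nat.card F + 1) : ∃ N, v ∣ N ∧ N ≠ v ∧ Elt2 F (a + 1) (s * -1) N := by
  have hq : 1 < Nat.card F := Finite.one_lt_card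
  have hodd := hv.odd_of_ne_two hv2
  rcases Nat.even_or_odd (Nat.card F) with h | h
  · have h1 := (hE.prod (elt_ell (F := F) (N := Nat.card F + 1) dvd_rfl)).two (by omega) (by
      rw [(Nat.Prime.coprime_iff_not_dvd hv |>.2 hco).lcm_eq_mul]
      exact hodd.mul (h.add_one))
    rw [(Nat.Prime.coprime_iff_not_dvd hv |>.2 hco).lcm_eq_mul] at h1
    refine ⟨_, dvd_mul_right _ _, ?_, h1⟩
    have := hv.pos
    nlinarith
  · obtain ⟨l, hl⟩ := h
    have hev : Even (Nat.card F + 1) := ⟨l + 1, by omega⟩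
    have h1 := Elt.prod_two ha hodd hE (elt_ell (F := F) (N := Nat.card F + 1) dvd_rfl) hev
    have h2 : (Nat.card F + 1) / 2 ∣ Nat.card F + 1 := ⟨2, by omega⟩
    have h3 : Nat.Coprime v ((Nat.card F + 1) / 2) :=
      (Nat.Prime.coprime_iff_not_dvd hv).2 fun h => hco (h.trans h2)
    rw [h3.lcm_eq_mul] at h1
    refine ⟨_, dvd_mul_right _ _, ?_, h1⟩
    have := hv.pos
    have : 2 ≤ (Nat.card F + 1) / 2 := by omega
    nlinarith

/-- a torus and a plus plane, `q` even -/
theorem torus_even {a : ℕ} {s : ℤ} {M : ℕ} (hM : Odd M) (hE : Elt F a s M) : Elt2 F (a + 1) (s * 1) M :=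
  (hE.add (m := 1) le_rfl (Or.inl rfl)).two (by omega) hM

/-- a torus and a plus plane, `q` odd -/
theorem torus_odd {a : ℕ} {s : ℤ} {M : ℕ} (hM : Even M) (hE : Elt F a s M) : Elt2 F (a + 1) (s * 1) (M / 2) :=
  hE.add_two le_rfl (Or.inl rfl) hM

/-- the numerical bound -/
def Big (q m v : ℕ) : Prop := ∀ f, 1 ≤ f → 2 ^ f ≤ q → (Odd q → 3 ^ f ≤ q) → f * (2 * m) < v - 1

theorem big_of_even {q a v : ℕ} (hq : Even q) (ha : 4 ≤ a) (hv : q ^ a ≤ v + 1) : Big q (a + 1) v := by
  intro f hf h2 _
  have := bd_even hf h2 ha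
  have h3 : f * (2 * (a + 1)) = 2 * (a + 1) * f := by ring
  omega

theorem big_of_odd {q a v : ℕ} (hq : Odd q) (ha : 3 ≤ a) (hv : q ^ a ≤ 2 * v + 1) : Big q (a + 1) v := by
  intro f hf _ h3
  have := bd_odd hf (h3 hq) ha
  have h3 : 2 * (f * (2 * (a + 1))) = 4 * (a + 1) * f := by ring
  omega

/-- weight at most `m - 2` -/
theorem small_weight {m : ℕ} (hm : 4 ≤ m) {δ : ℤ} (hδ : δ = 1 ∨ δ = -1) {v : ℕ} (hv : v.Prime) (hv2 : v ≠ 2)
    (h : wO (Nat.card F) v ≤ m - 2) : ∃ N, v ∣ N ∧ N ≠ v ∧ Elt2 F m δ N := by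
  obtain ⟨ε, hε, h1⟩ := exists_elt_wO (F := F) hv hv2
  refine ⟨2 * v, dvd_mul_left _ _, ?_, elt2_two (hv.odd_of_ne_two hv2) h1 (wO_pos hv) hε hδ (by omega)⟩
  have := hv.pos
  omega

theorem wO_three (q : ℕ) (hq : 1 ≤ q) : wO q 3 ≤ 2 := by
  rw [wO]
  split_ifs with h
  · exact le_rfl
  · rw [not_or] at h
    have h1 : 3 ∣ q ^ 2 - 1 := by
      have h2 : q % 3 = 1 ∨ q % 3 = 2 := by
        have := h.2
        omega
      have h3 : q ^ 2 % 3 = 1 := by
        rw [Nat.pow_mod]
        rcases h2 with h2 | h2 <;> rw [h2]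
      omega
    have h4 := Nat.le_of_dvd (by norm_num) (ee_dvd hq h1)
    exact (eta_le _).trans h4

/-- `v = 2` -/
theorem case_two {m : ℕ} (hm : 4 ≤ m) {δ : ℤ} (hδ : δ = 1 ∨ δ = -1) : ∃ N, 2 ∣ N ∧ N ≠ 2 ∧ Elt2 F m δ N := by
  obtain ⟨ε, hε, h1⟩ := exists_elt_wO (F := F) Nat.prime_three (by norm_num)
  have h2 := wO_three (Nat.card F) card_pos'
  exact ⟨2 * 3, dvd_mul_right _ _, by norm_num,
    elt2_two (by decide) h1 (wO_pos Nat.prime_three) hε hδ (by omega)⟩

/-- the torus case for the weight `m - 1` -/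
theorem torus_case {a : ℕ} (ha : 3 ≤ a) {s : ℤ} {v M : ℕ} (hv : v.Prime) (hv2 : v ≠ 2) (hvM : v ∣ M) (hE : Elt F a s M)
    (hM : M + 1 = Nat.card F ^ a ∨ M = Nat.card F ^ a + 1) :
    (∃ N, v ∣ N ∧ N ≠ v ∧ Elt2 F (a + 1) (s * 1) N) ∨ (Even (Nat.card F) ∧ v = M) ∨ (Odd (Nat.card F) ∧ 2 * v = M) := by
  have hodd := hv.odd_of_ne_two hv2
  rcases Nat.even_or_odd (Nat.card F) with h | h
  · have h1 : Even (Nat.card F ^ a) := h.pow_of_ne_zero (by omega)
    have hMo : Odd M := by
      rcases hM with hM | hM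
      · rw [← hM] at h1
        exact (Nat.even_add_one.1 h1 |> Nat.not_even_iff_odd.1)
      · rw [hM]; exact h1.add_one
    by_cases hvM' : v = M
    · exact Or.inr (Or.inl ⟨h, hvM'⟩)
    · exact Or.inl ⟨M, hvM, Ne.symm hvM', torus_even hMo hE⟩
  · have h1 : Odd (Nat.card F ^ a) := h.pow
    have hMe : Even M := by
      rcases hM with hM | hM
      · rw [← hM] at h1
        by_contra hne
        exact Nat.not_even_iff_odd.2 h1 (Nat.not_even_iff_odd.1 hne).add_one
      · rw [hM]; exact h1.add_one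
    obtain ⟨l, hl⟩ := hMe
    by_cases hvM' : 2 * v = M
    · exact Or.inr (Or.inr ⟨h, hvM'⟩)
    · refine Or.inl ⟨M / 2, ?_, by omega, torus_odd ⟨l, hl⟩ hE⟩
      have h2 : M / 2 = l := by omega
      rw [h2]
      have h3 : v ∣ 2 * l := by rw [two_mul, ← hl]; exact hvM
      exact (Nat.Coprime.dvd_of_dvd_mul_left (Nat.coprime_two_right.2 hodd) h3)

/-- **The alternative.** -/
theorem elt2_or_big {m : ℕ} (hm : 4 ≤ m) {δ : ℤ} (hδ : δ = 1 ∨ δ = -1) (hex : ¬ (m = 4 ∧ δ = 1 ∧ Nat.card F = 2))
    {v : ℕ} (hv : v.Prime)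
    (hcase : v = 2 ∨ v ∣ Nat.card F ∨ eta (ee (Nat.card F) v) ≤ m - 1 ∨
      (eta (ee (Nat.card F) v) = m ∧ sg (ee (Nat.card F) v) = δ)) :
    (∃ N, v ∣ N ∧ N ≠ v ∧ Elt2 F m δ N) ∨
      (v ≠ 2 ∧ ¬ v ∣ Nat.card F ∧ ((¬ (m = 4 ∧ δ = 1) ∧ Big (Nat.card F) m v) ∨
        (m = 4 ∧ δ = 1 ∧ Nat.card F = 3 ∧ v = 13))) := by
  have hq : 1 < Nat.card F := Finite.one_lt_card
  by_cases hv2 : v = 2
  · subst hv2
    exact Or.inl (case_two hm hδ)
  by_cases hvq : v ∣ Nat.card F
  · refine Or.inl (small_weight hm hδ hv hv2 ?_)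
    rw [wO, if_pos (Or.inr hvq)]
    omega
  have hw : wO (Nat.card F) v = eta (ee (Nat.card F) v) := by
    rw [wO, if_neg (by rw [not_or]; exact ⟨hv2, hvq⟩)]
  have hk := ee_pos hv hvq
  rcases Nat.lt_or_ge (eta (ee (Nat.card F) v)) (m - 1) with h1 | h1
  · exact Or.inl (small_weight hm hδ hv hv2 (by rw [hw]; omega))
  have h3 : 3 ≤ eta (ee (Nat.card F) v) := by omega
  obtain ⟨hn1, hn2⟩ := not_dvd_small (q := Nat.card F) (v := v) hq.le h3
  have hodd := hv.odd_of_ne_two hv2
  rcases Nat.lt_or_ge (eta (ee (Nat.card F) v)) m with h2 | h2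
  · -- weight `m - 1`
    obtain ⟨a, ha⟩ : ∃ a, eta (ee (Nat.card F) v) = a := ⟨_, rfl⟩
    have ham : m = a + 1 := by omega
    have ha3 : 3 ≤ a := by omega
    subst ham
    rcases type_cases hq.le hv hvq with ⟨hs, hd, -⟩ | ⟨hs, hd, -⟩
    · rw [ha] at hd
      have hE : ∀ {N : ℕ}, N ∣ Nat.card F ^ a - 1 → Elt F a 1 N := fun h => elt_tor_plus (by omega) h
      rcases hδ with rfl | rfl
      · -- torus of order `q ^ a - 1`
        have hpow : 1 < Nat.card F ^ a := Nat.one_lt_pow (by omega) hq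
        rcases torus_case ha3 hv hv2 hd (hE dvd_rfl) (Or.inl (by omega)) with h | ⟨h, hv'⟩ | ⟨h, hv'⟩
        · rw [mul_one] at h
          exact Or.inl h
        · right
          refine ⟨hv2, hvq, ?_⟩
          by_cases ha4 : a = 3
          · exfalso
            subst ha4
            -- `q - 1 ∣ v`
            have h5 : Nat.card F - 1 ∣ v := by rw [hv']; exact Nat.sub_one_dvd_pow_sub_one _ _
            rcases (Nat.dvd_prime hv).1 h5 with h6 | h6
            · exact hex ⟨rfl, rfl, by omega⟩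
            · exact hn2 (by rw [h6])
          · left
            exact ⟨fun h => ha4 (by omega), big_of_even h (by omega) (by omega)⟩
        · right
          refine ⟨hv2, hvq, ?_⟩
          by_cases ha4 : a = 3
          · right
            subst ha4
            obtain ⟨l, hl⟩ := h
            have h5 : Nat.card F - 1 ∣ 2 * v := by rw [hv']; exact Nat.sub_one_dvd_pow_sub_one _ _
            have h6 : 2 * l ∣ 2 * v := by
              have : Nat.card F - 1 = 2 * l := by omega
              rwa [this] at h5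
            have h7 : l ∣ v := Nat.dvd_of_mul_dvd_mul_left (by norm_num) h6
            rcases (Nat.dvd_prime hv).1 h7 with h8 | h8
            · have h9 : Nat.card F = 3 := by omega
              rw [h9] at hv'
              exact ⟨rfl, rfl, h9, by omega⟩
            · exfalso
              exact hn2 ⟨2, by omega⟩
          · left
            exact ⟨fun h => ha4 (by omega), big_of_odd h (by omega) (by omega)⟩
      · -- minus plane
        left
        have h := plane_trick (by omega) hv hv2 (hE hd) hn1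
        rwa [one_mul] at h
    · rw [ha] at hd
      have hE : ∀ {N : ℕ}, N ∣ Nat.card F ^ a + 1 → Elt F a (-1) N := fun h => elt_tor_minus (by omega) h
      rcases hδ with rfl | rfl
      · left
        have h := plane_trick (by omega) hv hv2 (hE hd) hn1
        rwa [show (-1 : ℤ) * -1 = 1 by norm_num] at h
      · rcases torus_case ha3 hv hv2 hd (hE dvd_rfl) (Or.inr rfl) with h | ⟨h, hv'⟩ | ⟨h, hv'⟩
        · rw [mul_one] at h
          exact Or.inl h
        · right
          refine ⟨hv2, hvq, Or.inl ⟨fun h => by norm_num at h, ?_⟩⟩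
          by_cases ha4 : a = 3
          · exfalso
            subst ha4
            have h5 : Nat.card F + 1 ∣ v := by
              rw [hv']
              exact ⟨Nat.card F ^ 2 - Nat.card F + 1, by
                have h6 : Nat.card F ≤ Nat.card F ^ 2 := Nat.le_self_pow (by norm_num) _
                zify [h6]
                ring⟩
            rcases (Nat.dvd_prime hv).1 h5 with h6 | h6
            · omega
            · exact hn1 (by rw [h6])
          · exact big_of_even h (by omega) (by omega)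
        · right
          exact ⟨hv2, hvq, Or.inl ⟨fun h => by norm_num at h, big_of_odd h ha3 (by omega)⟩⟩
  · -- weight `m`
    have hcm : eta (ee (Nat.card F) v) = m ∧ sg (ee (Nat.card F) v) = δ := by
      rcases hcase with h | h | h | h
      · exact absurd h hv2
      · exact absurd h hvq
      · omega
      · exact h
    obtain ⟨hc1, hc2⟩ := hcm
    obtain ⟨a, ham⟩ : ∃ a, m = a + 1 := ⟨m - 1, by omega⟩
    have hqm : Nat.card F ^ a ≤ Nat.card F ^ m := Nat.pow_le_pow_right (by omega) (by omega)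
    have hqm2 : Nat.card F * Nat.card F ^ a = Nat.card F ^ m := by rw [ham, pow_succ']
    have hE : ∀ {N : ℕ}, N ∣ tn (Nat.card F) (ee (Nat.card F) v) → Elt F m δ N := by
      intro N hN
      have := elt_tn (F := F) hk hN
      rwa [hc1, hc2] at this
    have hvt := dvd_tn (q := Nat.card F) hq.le hv hvq
    have htn : tn (Nat.card F) (ee (Nat.card F) v) + 1 = Nat.card F ^ m ∧ δ = 1 ∧ Odd m ∨
        tn (Nat.card F) (ee (Nat.card F) v) = Nat.card F ^ m + 1 ∧ δ = -1 := by
      rcases type_cases hq.le hv hvq with ⟨hs, hd, ho⟩ | ⟨hs, hd, he⟩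
      · left
        rw [tn, if_neg ho]
        rw [eta, if_neg ho] at hc1
        rw [hc1] at ho ⊢
        have : 1 < Nat.card F ^ m := Nat.one_lt_pow (by omega) hq
        exact ⟨by omega, by rw [← hc2, hs], Nat.not_even_iff_odd.1 ho⟩
      · right
        rw [tn, if_pos he]
        rw [eta, if_pos he] at hc1
        rw [hc1]
        exact ⟨rfl, by rw [← hc2, hs]⟩
    obtain ⟨t, ht⟩ : ∃ t, tn (Nat.card F) (ee (Nat.card F) v) = t := ⟨_, rfl⟩
    rw [ht] at hvt hE htn
    have hnot : ¬ (m = 4 ∧ δ = 1) := by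
      rintro ⟨h4, h5⟩
      rcases htn with ⟨-, -, ho⟩ | ⟨-, h6⟩
      · rw [h4] at ho
        exact absurd ho (by decide)
      · rw [h5] at h6
        norm_num at h6
    rcases Nat.even_or_odd (Nat.card F) with h | h
    · -- `q` even
      have h4 : Even (Nat.card F ^ m) := h.pow_of_ne_zero (by omega)
      have hto : Odd t := by
        rcases htn with ⟨h5, -, -⟩ | ⟨h5, -⟩
        · rw [← h5] at h4
          exact Nat.not_even_iff_odd.1 (Nat.even_add_one.1 h4)
        · rw [h5]; exact h4.add_one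
      by_cases hvt' : v = t
      · right
        refine ⟨hv2, hvq, Or.inl ⟨hnot, ?_⟩⟩
        intro f hf hf2 _
        have h5 := bd_even (a := m) hf hf2 hm
        have h6 : f * (2 * m) ≤ 2 * (m + 1) * f := by nlinarith
        omega
      · exact Or.inl ⟨t, hvt, Ne.symm hvt', (hE dvd_rfl).two (by omega) hto⟩
    · -- `q` odd
      have h3q : 3 ≤ Nat.card F := by
        rcases h with ⟨l, hl⟩
        omega
      rcases Nat.even_or_odd m with hme | hmo
      · -- `m` even: `t = q ^ m + 1`
        have h5 : t = Nat.card F ^ m + 1 := by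
          rcases htn with ⟨-, -, ho⟩ | ⟨h5, -⟩
          · exact absurd hme (Nat.not_even_iff_odd.2 ho)
          · exact h5
        have h6 : Nat.card F ^ m % 4 = 1 := by
          obtain ⟨l, hl⟩ := hme
          rw [hl, ← two_mul, pow_mul, Nat.pow_mod]
          have : Nat.card F ^ 2 % 4 = 1 := by
            rw [Nat.pow_mod]
            have : Nat.card F % 4 = 1 ∨ Nat.card F % 4 = 3 := by
              rcases h with ⟨l, hl⟩
              omega
            rcases this with h | h <;> rw [h]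
          rw [this]
          norm_num
        have h7 : v ∣ t / 2 := by
          have h8 : v ∣ 2 * (t / 2) := by
            have : 2 * (t / 2) = t := by omega
            rwa [this]
          exact Nat.Coprime.dvd_of_dvd_mul_left (Nat.coprime_two_right.2 hodd) h8
        by_cases hvt' : v = t / 2
        · right
          refine ⟨hv2, hvq, Or.inl ⟨hnot, ?_⟩⟩
          intro f hf _ hf3
          have h8 := bd_odd (a := m) hf (hf3 h) (by omega)
          have h9 : 2 * (f * (2 * m)) ≤ 4 * (m + 1) * f := by nlinarith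
          omega
        · exact Or.inl ⟨t / 2, h7, Ne.symm hvt', (hE ⟨2, by omega⟩).two (by omega) (by
            rw [Nat.odd_iff]; omega)⟩
      · -- `m` odd: `S = t / (q ∓ 1)`
        have hS : ∃ S c, t = c * S ∧ Odd S ∧ c ≤ Nat.card F + 1 ∧ ¬ v ∣ c ∧ 0 < c := by
          rcases htn with ⟨h5, -, -⟩ | ⟨h5, -⟩
          · refine ⟨∑ i ∈ Finset.range m, Nat.card F ^ i, Nat.card F - 1, ?_, ?_, by omega, hn2, by omega⟩
            · have h6 := Nat.geomSum_eq (m := Nat.card F) (by omega) m
              have h7 := Nat.div_mul_cancel (Nat.sub_one_dvd_pow_sub_one (Nat.card F) m)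
              rw [h6, mul_comm, h7]
              omega
            · rw [Finset.odd_sum_iff_odd_card_odd]
              have : (Finset.range m).filter (fun i => Odd (Nat.card F ^ i)) = Finset.range m :=
                Finset.filter_true_of_mem fun i _ => h.pow
              rw [this, Finset.card_range]
              exact hmo
          · obtain ⟨S, hS⟩ := hmo.nat_add_dvd_pow_add_pow (Nat.card F) 1
            rw [one_pow] at hS
            refine ⟨S, Nat.card F + 1, by rw [h5, hS], ?_, le_rfl, hn1, by omega⟩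
            -- `S ≡ m` modulo `2`: `S` even implies `2 (q + 1) ∣ q ^ m + 1`
            rw [← Nat.not_even_iff_odd]
            rintro ⟨l, hl⟩
            have h6 : Nat.card F ^ m + 1 = (Nat.card F + 1) * (2 * l) := by rw [hS, hl, two_mul]
            have h7 : ((Nat.card F : ℤ) + 1) * ((Finset.range m).sum fun i => (Nat.card F : ℤ) ^ i * (-1) ^ (m - 1 - i))
                = (Nat.card F : ℤ) ^ m + 1 := by
              have := Commute.geom_sum₂_mul (Commute.all (Nat.card F : ℤ) (-1)) m
              rw [hmo.neg_one_pow] at this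
              rw [mul_comm]
              linarith
            have h8 : ((Finset.range m).sum fun i => (Nat.card F : ℤ) ^ i * (-1) ^ (m - 1 - i)) = 2 * l := by
              have h9 : ((Nat.card F : ℤ) ^ m + 1) = ((Nat.card F : ℤ) + 1) * (2 * l) := by exact_mod_cast h6
              rw [h9] at h7
              exact mul_left_cancel₀ (by positivity) h7
            have h9 := congrArg (Int.cast : ℤ → ZMod 2) h8
            have h10 : ((Nat.card F : ℕ) : ZMod 2) = 1 := ZMod.natCast_eq_one_iff_odd.2 h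
            have h11 : (2 : ZMod 2) = 0 := by decide
            have h12 : (-1 : ZMod 2) = 1 := by decide
            push_cast at h9
            rw [h11, zero_mul, h10, h12] at h9
            simp only [one_pow, mul_one, Finset.sum_const, Finset.card_range, nsmul_eq_mul] at h9
            have h13 : ((m : ℕ) : ZMod 2) = 1 := ZMod.natCast_eq_one_iff_odd.2 hmo
            rw [h13] at h9
            exact one_ne_zero h9
        obtain ⟨S, c, hS1, hS2, hc3, hc4, hc5⟩ := hS
        have h7 : v ∣ S := by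
          rw [hS1] at hvt
          exact (hv.dvd_mul.1 hvt).resolve_left hc4
        by_cases hvt' : v = S
        · right
          refine ⟨hv2, hvq, Or.inl ⟨hnot, ?_⟩⟩
          intro f hf _ hf3
          have h8 := bd_odd (a := a) hf (hf3 h) (by omega)
          have h9 : 2 * (f * (2 * m)) = 4 * (a + 1) * f := by rw [ham]; ring
          -- `(q + 1) S ≥ q ^ m - 1`
          have h10 : Nat.card F ^ m ≤ (Nat.card F + 1) * v + 1 := by
            have h11 : t ≤ (Nat.card F + 1) * v := by
              rw [hS1, hvt']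
              exact Nat.mul_le_mul_right _ hc3
            rcases htn with ⟨h5, -, -⟩ | ⟨h5, -⟩ <;> omega
          rw [← hqm2] at h10
          -- `q (4 m f + 4) ≤ (q + 1) v + 1`
          have h12 : Nat.card F * (4 * (a + 1) * f + 4) ≤ (Nat.card F + 1) * v + 1 :=
            (Nat.mul_le_mul_left _ h8).trans h10
          by_contra hcon
          push Not at hcon
          have h13 : 2 * (v - 1) ≤ 4 * (a + 1) * f := by omega
          have h14 : 2 * v ≤ 4 * (a + 1) * f + 2 := by omega
          have h15 : 2 * ((Nat.card F + 1) * v) ≤ (Nat.card F + 1) * (4 * (a + 1) * f + 2) := by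
            calc 2 * ((Nat.card F + 1) * v) = (Nat.card F + 1) * (2 * v) := by ring
              _ ≤ _ := Nat.mul_le_mul_left _ h14
          nlinarith
        · exact Or.inl ⟨S, h7, Ne.symm hvt', (hE ⟨c, by rw [hS1, mul_comm]⟩).two (by omega) hS2⟩

end elts

end Cfsg.Agent.H964.Opm
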