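import Cfsg.Agent.H964.Opm.Semi
import Cfsg.Agent.H964.Opm.NscNum
import Cfsg.Agent.S0293
import Cfsg.Agent.S0294

/-!
# S3500-OPM: `NSC` for `PΩ^±_{2m}(q)` (helper964)
-/

set_option autoImplicit false
set_option linter.unusedVariables false

namespace Cfsg.Agent.H964.Opm

open Cfsg Cfsg.Agent.H377 Cfsg.Agent.H72.AdjOrth Cfsg.Agent.H439.Der
open Cfsg.Agent.LieClassical.OrthCore Cfsg.Agent.LieClassical.OrthTrans Cfsg.Agent.LieClassical.OrthForms
  Cfsg.Agent.ClassicalGeometry.OrthAut1 Cfsg.Agent.ClassicalGeometry.OrthSemi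
  Cfsg.Agent.ClassicalGeometry.OrthSemiForms
open Module

/-! ### the prime divisors of the order -/

theorem eta_le_of_dvd {k i : ℕ} (hi : 0 < i) (h : k ∣ 2 * i) : eta k ≤ i := by
  rw [eta]
  split_ifs with he
  · have := Nat.le_of_dvd (by omega) h
    omega
  · have h1 : k ∣ i := (Nat.Coprime.dvd_of_dvd_mul_left (Nat.coprime_two_right.2 (Nat.not_even_iff_odd.1 he)) h)
    exact Nat.le_of_dvd hi h1

theorem case_prod {q m v : ℕ} (hq : 1 ≤ q) (hm : 4 ≤ m) (hv : v.Prime)
    (h : v ∣ ∏ i ∈ Finset.range (m - 1), (q ^ (2 * (i + 1)) - 1)) : eta (ee q v) ≤ m - 1 := by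
  obtain ⟨i, hi, hd⟩ := (Prime.dvd_finsetProd_iff hv.prime _).1 h
  rw [Finset.mem_range] at hi
  have := eta_le_of_dvd (i := i + 1) (by omega) (ee_dvd hq hd)
  omega

theorem case_plus {q m v : ℕ} (hq : 1 < q) (hm : 4 ≤ m) (hv : v.Prime)
    (h : v ∣ q ^ (m * (m - 1)) * (q ^ m - 1) * ∏ i ∈ Finset.range (m - 1), (q ^ (2 * (i + 1)) - 1)) :
    v = 2 ∨ v ∣ q ∨ eta (ee q v) ≤ m - 1 ∨ (eta (ee q v) = m ∧ sg (ee q v) = 1) := by
  rcases hv.dvd_mul.1 h with h | h
  · rcases hv.dvd_mul.1 h with h | h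
    · exact Or.inr (Or.inl (hv.dvd_of_dvd_pow h))
    · right; right
      have h1 := ee_dvd hq.le h
      by_cases he : Even (ee q v)
      · left
        rw [eta, if_pos he]
        have := Nat.le_of_dvd (by omega) h1
        omega
      · have h2 : eta (ee q v) = ee q v := by rw [eta, if_neg he]
        have h3 := Nat.le_of_dvd (by omega) h1
        rcases Nat.lt_or_ge (ee q v) m with h4 | h4
        · left; omega
        · right
          exact ⟨by omega, by rw [sg, if_neg he]⟩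
  · exact Or.inr (Or.inr (Or.inl (case_prod hq.le hm hv h)))

theorem case_minus {q m v : ℕ} (hq : 1 < q) (hm : 4 ≤ m) (hv : v.Prime)
    (h : v ∣ q ^ (m * (m - 1)) * (q ^ m + 1) * ∏ i ∈ Finset.range (m - 1), (q ^ (2 * (i + 1)) - 1)) :
    v = 2 ∨ v ∣ q ∨ eta (ee q v) ≤ m - 1 ∨ (eta (ee q v) = m ∧ sg (ee q v) = -1) := by
  rcases hv.dvd_mul.1 h with h | h
  · rcases hv.dvd_mul.1 h with h | h
    · exact Or.inr (Or.inl (hv.dvd_of_dvd_pow h))
    · have h0 : v ∣ q ^ (2 * m) - 1 := by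
        have : q ^ (2 * m) - 1 = (q ^ m + 1) * (q ^ m - 1) := by
          rw [mul_comm 2 m, pow_mul]
          have := Nat.sq_sub_sq (q ^ m) 1
          rw [one_pow] at this
          exact this
        rw [this]
        exact Dvd.dvd.mul_right h _
      have h1 := ee_dvd hq.le h0
      by_cases he : Even (ee q v)
      · right; right
        have h2 : eta (ee q v) = ee q v / 2 := by rw [eta, if_pos he]
        have h3 := Nat.le_of_dvd (by omega) h1
        obtain ⟨l, hl⟩ := he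
        rcases Nat.lt_or_ge (eta (ee q v)) m with h4 | h4
        · left; omega
        · right
          exact ⟨by omega, by rw [sg, if_pos ⟨l, hl⟩]⟩
      · left
        have h2 : ee q v ∣ m := Nat.Coprime.dvd_of_dvd_mul_left (Nat.coprime_two_right.2 (Nat.not_even_iff_odd.1 he)) h1
        have h3 : v ∣ q ^ m - 1 := by
          have h4 := dvd_pow_ee (r := v) hq.le
          exact h4.trans (Nat.pow_sub_one_dvd_pow_sub_one q h2)
        have h4 : 1 < q ^ m := Nat.one_lt_pow (by omega) hq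
        have h5 : v ∣ (q ^ m + 1) - (q ^ m - 1) := Nat.dvd_sub h h3
        have h6 : (q ^ m + 1) - (q ^ m - 1) = 2 := by omega
        rw [h6] at h5
        exact (Nat.prime_dvd_prime_iff_eq hv Nat.prime_two).1 h5
  · exact Or.inr (Or.inr (Or.inl (case_prod hq.le hm hv h)))

/-! ### the field -/

section field

variable {F : Type*} [Field F] [Fintype F]

theorem exists_pf (F : Type*) [Field F] [Fintype F] : ∃ p f : ℕ, p.Prime ∧ 1 ≤ f ∧ Fintype.card F = p ^ f ∧
    Nat.card (F ≃+* F) = f ∧ 2 ^ f ≤ Nat.card F ∧ (Odd (Nat.card F) → 3 ^ f ≤ Nat.card F) := by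
  obtain ⟨p, hp⟩ := CharP.exists F
  obtain ⟨f, hpp, hf⟩ := FiniteField.card F p
  have := Fact.mk hpp
  have hf1 : 1 ≤ (f : ℕ) := f.pos
  refine ⟨p, f, hpp, hf1, hf, Cfsg.Agent.Lib.FieldAutCard.card_ringAut hf1 hf, ?_, ?_⟩
  · rw [Nat.card_eq_fintype_card, hf]
    exact Nat.pow_le_pow_left hpp.two_le _
  · intro h
    rw [Nat.card_eq_fintype_card, hf] at h ⊢
    have h1 : p ≠ 2 := by
      rintro rfl
      exact Nat.not_odd_iff_even.2 ((even_two).pow_of_ne_zero (by omega)) h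
    have := hpp.two_le
    exact Nat.pow_le_pow_left (by omega) _

theorem cast_ne_zero {v : ℕ} (hv : v.Prime) (h : ¬ v ∣ Nat.card F) : (v : F) ≠ 0 := by
  intro h0
  apply h
  obtain ⟨p, hp⟩ := CharP.exists F
  obtain ⟨f, hpp, hf⟩ := FiniteField.card F p
  have h1 : p ∣ v := (CharP.cast_eq_zero_iff F p v).1 h0
  rw [(Nat.prime_dvd_prime_iff_eq hpp hv).1 h1] at hf
  rw [Nat.card_eq_fintype_card, hf]
  exact dvd_pow_self _ f.pos.ne'

end field

section rows

variable {F : Type} [Field F] [Fintype F] {m : ℕ}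

theorem finite_POmega {ι : Type} [Fintype ι] [DecidableEq ι] (Q : (ι → F) → F) : Finite (Cfsg.POmega F Q) := by
  have : Finite (Matrix.GeneralLinearGroup ι F) := inferInstance
  exact Quotient.finite _

/-- **`NSC` for the minus type** -/
theorem nsc_minus (hm : 4 ≤ m) {a b : F}
    (hab : ∀ z₁ z₂ : F, z₁ ^ 2 + a * z₁ * z₂ + b * z₂ ^ 2 = 0 → z₁ = 0 ∧ z₂ = 0) :
    NSC (Cfsg.POmega F (Cfsg.quadFormMinus (m - 1) F a b)) := by
  intro v hv hd
  have hfin := finite_POmega (F := F) (Cfsg.quadFormMinus (m - 1) F a b)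
  have hq : 1 < Nat.card F := Finite.one_lt_card
  have h1 := Cfsg.Agent.S0294.result (F := F) (q := Nat.card F) Nat.card_eq_fintype_card.symm m hm a b hab
  have h2 : v ∣ Nat.card F ^ (m * (m - 1)) * (Nat.card F ^ m + 1) *
      ∏ i ∈ Finset.range (m - 1), (Nat.card F ^ (2 * (i + 1)) - 1) := by
    rw [← h1]
    exact Dvd.dvd.mul_left hd _
  rcases elt2_or_big (F := F) hm (δ := -1) (Or.inr rfl) (fun h => by have := h.2.1; norm_num at this) hv
    (case_minus hq hm hv h2) with ⟨N, hN, hNv, hE⟩ | ⟨hv2, hvq, h3⟩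
  · obtain ⟨g, hg⟩ := hE.minus hm hab
    exact not_SC_of_orderOf hv (y := g) (by rw [hg]; exact hN) (by rw [hg]; exact hNv)
  · have hbig : Big (Nat.card F) m v := by
      rcases h3 with h3 | h3
      · exact h3.2
      · have := h3.2.1
        norm_num at this
    obtain ⟨p, f, hp, hf, hF, haut, h2f, h3f⟩ := exists_pf F
    have hG := good_minus (F := F) (m := m - 1) (by omega) a b hab
    rw [← coe_minusForm] at hd ⊢
    intro hsc
    refine not_SC_of_surj (Q := minusForm (m - 1) F a b) hG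
      (Cfsg.Agent.AutOrth.Final.surjective_minus (by omega) hab) hv hv2 (cast_ne_zero hv hvq) ?_ ?_
      (hsc.congr (pomegaEquiv hG))
    · rwa [← Nat.card_congr (pomegaEquiv hG).toEquiv]
    · rw [haut, Module.finrank_fintype_fun_eq_card, Fintype.card_sum, Fintype.card_sum, Fintype.card_fin,
        Fintype.card_fin]
      have h4 := hbig f hf h2f h3f
      have h5 : m - 1 + (m - 1) + 2 = 2 * m := by omega
      rw [h5]
      exact h4

/-- **`NSC` for the plus type** up to `PΩ8+(3)`, `v = 13` -/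
theorem nsc_plus_aux (hm : 4 ≤ m) (hex : ¬ (m = 4 ∧ Fintype.card F = 2)) {v : ℕ} (hv : v.Prime)
    (hd : v ∣ Nat.card (Cfsg.POmega F (Cfsg.quadFormPlus m F))) (hex' : ¬ (m = 4 ∧ Fintype.card F = 3 ∧ v = 13)) :
    ¬ SC (Cfsg.POmega F (Cfsg.quadFormPlus m F)) v := by
  have hfin := finite_POmega (F := F) (Cfsg.quadFormPlus m F)
  have hq : 1 < Nat.card F := Finite.one_lt_card
  have h1 := Cfsg.Agent.S0293.result (F := F) (q := Nat.card F) Nat.card_eq_fintype_card.symm m hm
  have h2 : v ∣ Nat.card F ^ (m * (m - 1)) * (Nat.card F ^ m - 1) *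
      ∏ i ∈ Finset.range (m - 1), (Nat.card F ^ (2 * (i + 1)) - 1) := by
    rw [← h1]
    exact Dvd.dvd.mul_left hd _
  rcases elt2_or_big (F := F) hm (δ := 1) (Or.inl rfl) (fun h => hex ⟨h.1, by
      rw [← Nat.card_eq_fintype_card]; exact h.2.2⟩) hv (case_plus hq hm hv h2) with ⟨N, hN, hNv, hE⟩ | ⟨hv2, hvq, h3⟩
  · obtain ⟨g, hg⟩ := hE.plus hm
    exact not_SC_of_orderOf hv (y := g) (by rw [hg]; exact hN) (by rw [hg]; exact hNv)
  · obtain ⟨hm4, hbig⟩ : ¬ (m = 4 ∧ (1 : ℤ) = 1) ∧ Big (Nat.card F) m v := by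
      rcases h3 with h3 | h3
      · exact h3
      · exact absurd ⟨h3.1, by rw [← Nat.card_eq_fintype_card]; exact h3.2.2.1, h3.2.2.2⟩ hex'
    have hm5 : 5 ≤ m := by
      rcases Nat.lt_or_ge m 5 with h | h
      · exact absurd ⟨by omega, rfl⟩ hm4
      · exact h
    obtain ⟨p, f, hp, hf, hF, haut, h2f, h3f⟩ := exists_pf F
    have hG := good_plus (F := F) (m := m) (by omega)
    rw [← coe_plusForm] at hd ⊢
    intro hsc
    refine not_SC_of_surj (Q := plusForm m F) hG
      (Cfsg.Agent.AutOrth.Final.surjective_plus hm5) hv hv2 (cast_ne_zero hv hvq) ?_ ?_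
      (hsc.congr (pomegaEquiv hG))
    · rwa [← Nat.card_congr (pomegaEquiv hG).toEquiv]
    · rw [haut, Module.finrank_fintype_fun_eq_card, Fintype.card_sum, Fintype.card_fin]
      have h4 := hbig f hf h2f h3f
      rw [← two_mul]
      exact h4

end rows

end Cfsg.Agent.H964.Opm
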