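import Cfsg.Agent.H278.ElFamA
import Cfsg.Agent.H278.ElCrossRows
import Cfsg.Agent.H503.El.PG
import Cfsg.Agent.H964.Opm.Nsc

/-!
# S3500: the row `PΩ^-_{2m}(q)`, `m ≥ 4`

Every proper subgroup misses a prime.
-/

set_option autoImplicit false

namespace Cfsg.Agent.H964.Opm

open Cfsg Cfsg.Geo Cfsg.Agent.H439.Der Cfsg.Agent.OrdDiv Cfsg.Agent.H436 Cfsg.Agent.H264.FKS Cfsg.Agent.H915.GN
open Cfsg.Agent.H938.Sax (PGap)
open Cfsg.Agent.H884.Cx (excP cross_row)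

variable {F : Type} [Field F] [Fintype F] {m : ℕ}

/-- **Every proper subgroup of `PΩ^-_{2m}(q)`, `m ≥ 4`, misses a prime.** -/
theorem pgap_minus (tab : OrderTable.{0}) (hK : ∀ (X : Type) [Group X] [Finite X] [IsSimpleGroup X],
    Cfsg.IsKnownSimple' X) (hm : 4 ≤ m) {a b : F}
    (hab : ∀ z₁ z₂ : F, z₁ ^ 2 + a * z₁ * z₂ + b * z₂ ^ 2 = 0 → z₁ = 0 ∧ z₂ = 0)
    {R : Subgroup (POmega F (quadFormMinus (m - 1) F a b))} (hR : R ≠ ⊤) : PGap _ R := by
  by_cases h2 : Fintype.card F = 2 ∧ m = 4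
  · obtain ⟨h2, rfl⟩ := h2
    exact Cfsg.Agent.H503.El.pgap_o8m tab hK F h2 a b hab R hR
  obtain ⟨p, f, hp, hf, hF, -⟩ := exists_pf F
  have hpF : p ∣ Fintype.card F := by
    rw [hF]
    exact dvd_pow_self p (by omega)
  have hfin : Finite (POmega F (quadFormMinus (m - 1) F a b)) := Quotient.finite _
  refine Cfsg.Agent.H278.El.Asm.ominus_row tab hK hp hpF hm hab h2 ?_ hR
  intro R hR S hSn hSs hna hC H P hP e s g hsp hne hS hch
  have hT : IsNamed (.ominus m (Fintype.card F)) (POmega F (quadFormMinus (m - 1) F a b)) :=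
    named_ominus (F := F) hm hab
  have hι : Fintype.card ((Fin (m - 1) ⊕ Fin (m - 1)) ⊕ Fin 2) = 2 * m := by
    rw [Fintype.card_sum, Fintype.card_sum, Fintype.card_fin, Fintype.card_fin]
    omega
  rcases Cfsg.Agent.H278.El.Asm.cross_gen hp hT trivial ⟨f, hF⟩ hι hpF S hSn hSs hna hC hP e
    hsp hne hS hch with h | h
  · exact h
  · simp only [excP, List.mem_cons, Prod.mk.injEq, reduceCtorEq, and_false, or_false, List.not_mem_nil] at h

/-- **The row `PΩ^-_{2m}(q)`.** -/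
theorem row_ominus (tab : OrderTable.{0}) (hK : ∀ (X : Type) [Group X] [Finite X] [IsSimpleGroup X],
    Cfsg.IsKnownSimple' X) (hm : 4 ≤ m) {a b : F}
    (hab : ∀ z₁ z₂ : F, z₁ ^ 2 + a * z₁ * z₂ + b * z₂ ^ 2 = 0 → z₁ = 0 ∧ z₂ = 0) :
    Row (POmega F (quadFormMinus (m - 1) F a b)) := by
  haveI := finite_POmega (quadFormMinus (m - 1) F a b)
  exact Row.of_pgap (nsc_minus hm hab) fun M hM => pgap_minus tab hK hm hab hM.1

end Cfsg.Agent.H964.Opm
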