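import Mathlib

/-!
# S3500-OPM: numbers for `PΩ⁺_8(q)`, `q ≥ 4` (helper964)

`q = p ^ f`, `d = gcd(2, q - 1)`, `A = (q ^ 2 + 1) / d`, `B = (q ^ 2 - 1) / d`.
-/

set_option autoImplicit false

namespace Cfsg.Agent.H964.Opm

/-- the data -/
structure AB (p f d A B : ℕ) : Prop where
  p2 : 2 ≤ p
  f1 : 1 ≤ f
  q4 : 4 ≤ p ^ f
  hA : p ^ (2 * f) + 1 = d * A
  hB : p ^ (2 * f) = d * B + 1
  hd : (d = 1 ∧ Even p) ∨ (d = 2 ∧ Odd p)

namespace AB

variable {p f d A B : ℕ}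

theorem sq (h : AB p f d A B) : 16 ≤ p ^ (2 * f) := by
  have h1 := h.q4
  have h2 : p ^ (2 * f) = p ^ f * p ^ f := by rw [← pow_add]; congr 1; ring
  rw [h2]
  nlinarith

theorem thirteen (h : AB p f d A B) : 13 ≤ A := by
  have h1 := h.q4
  have h2 : p ^ (2 * f) = p ^ f * p ^ f := by rw [← pow_add]; congr 1; ring
  have h3 := h.hA
  rcases h.hd with ⟨rfl, -⟩ | ⟨rfl, ho⟩
  · have := h.sq
    omega
  · have h4 : Odd (p ^ f) := ho.pow
    have h5 : 5 ≤ p ^ f := by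
      rcases h4 with ⟨k, hk⟩
      omega
    have h6 : 25 ≤ p ^ f * p ^ f := by nlinarith
    omega

theorem odd (h : AB p f d A B) : Odd A := by
  have h3 := h.hA
  have h2 : p ^ (2 * f) = p ^ f * p ^ f := by rw [← pow_add]; congr 1; ring
  rcases h.hd with ⟨rfl, he⟩ | ⟨rfl, ho⟩
  · rw [one_mul] at h3
    rw [← h3]
    exact (he.pow_of_ne_zero (by have := h.f1; omega)).add_one
  · obtain ⟨k, hk⟩ := ho.pow (n := f)
    have h4 : p ^ f * p ^ f = 4 * (k * (k + 1)) + 1 := by rw [hk]; ring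
    obtain ⟨l, hl⟩ := Nat.even_mul_succ_self k
    refine ⟨2 * l, ?_⟩
    rw [h2, h4, hl] at h3
    omega

theorem cop (h : AB p f d A B) : Nat.Coprime A B := by
  have h1 : Nat.gcd A B ∣ 2 := by
    have h2 : Nat.gcd A B ∣ p ^ (2 * f) + 1 := h.hA ▸ Dvd.dvd.mul_left (Nat.gcd_dvd_left A B) d
    have h3 : Nat.gcd A B ∣ d * B := Dvd.dvd.mul_left (Nat.gcd_dvd_right A B) d
    have h4 : p ^ (2 * f) + 1 = d * B + 2 := by rw [h.hB]
    rw [h4] at h2
    exact (Nat.dvd_add_right h3).1 h2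
  have h5 : Nat.gcd A B ∣ A := Nat.gcd_dvd_left A B
  rcases (Nat.dvd_prime Nat.prime_two).1 h1 with h6 | h6
  · exact h6
  · rw [h6] at h5
    exact absurd h.odd (Nat.not_odd_iff_even.2 (even_iff_two_dvd.2 h5))

theorem lt (h : AB p f d A B) {b : ℕ} (hb : b < 2 * f) : p ^ b + 1 < B := by
  have hp := h.p2
  have hf := h.f1
  have h1 : p ^ b ≤ p ^ (2 * f - 1) := Nat.pow_le_pow_right (by omega) (by omega)
  have h2 : p ^ (2 * f) = p ^ (2 * f - 1) * p := by rw [← pow_succ]; congr 1; omega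
  have h3 := h.hB
  have h4 := h.sq
  rw [h2] at h3 h4
  rcases h.hd with ⟨rfl, he⟩ | ⟨rfl, ho⟩
  · have h5 : p ^ (2 * f - 1) * 2 ≤ p ^ (2 * f - 1) * p := Nat.mul_le_mul_left _ hp
    have h6 : 4 ≤ p ^ (2 * f - 1) := by
      rcases Nat.lt_or_ge f 2 with h7 | h7
      · obtain rfl : f = 1 := by omega
        have := h.q4
        rw [pow_one] at this
        simpa using this
      · calc 4 ≤ 2 ^ (2 * f - 1) := by
              calc 4 = 2 ^ 2 := by norm_num
                _ ≤ 2 ^ (2 * f - 1) := Nat.pow_le_pow_right (by norm_num) (by omega)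
          _ ≤ p ^ (2 * f - 1) := Nat.pow_le_pow_left hp _
    omega
  · have h3p : 3 ≤ p := by
      rcases ho with ⟨k, hk⟩
      omega
    have h5 : p ^ (2 * f - 1) * 3 ≤ p ^ (2 * f - 1) * p := Nat.mul_le_mul_left _ h3p
    rcases Nat.lt_or_ge f 2 with h7 | h7
    · obtain rfl : f = 1 := by omega
      have h8 : 5 ≤ p := by
        have := h.q4
        rw [pow_one] at this
        rcases ho with ⟨k, hk⟩
        omega
      have h9 : p ^ (2 * 1 - 1) * 5 ≤ p ^ (2 * 1 - 1) * p := Nat.mul_le_mul_left _ h8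
      have h10 : 5 ≤ p ^ (2 * 1 - 1) := by simpa using h8
      omega
    · have h6 : 27 ≤ p ^ (2 * f - 1) := by
        calc 27 = 3 ^ 3 := by norm_num
          _ ≤ 3 ^ (2 * f - 1) := Nat.pow_le_pow_right (by norm_num) (by omega)
          _ ≤ p ^ (2 * f - 1) := Nat.pow_le_pow_left h3p _
      omega

theorem pow_mod (h : AB p f d A B) (t : ℕ) : p ^ t ≡ p ^ (t % (2 * f)) [MOD B] := by
  have h1 : p ^ (2 * f) ≡ 1 [MOD B] := by
    rw [h.hB]
    have : d * B ≡ 0 [MOD B] := (Nat.modEq_zero_iff_dvd).2 (dvd_mul_left B d)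
    exact this.add_right 1
  conv_lhs => rw [← Nat.div_add_mod t (2 * f), pow_add, pow_mul]
  have h2 := (h1.pow (t / (2 * f))).mul_right (p ^ (t % (2 * f)))
  rwa [one_pow, one_mul] at h2

theorem B_pos (h : AB p f d A B) : 2 < B := by
  have := h.lt (b := 0) (by have := h.f1; omega)
  rwa [pow_zero] at this

theorem dvd_of_mod (h : AB p f d A B) {t : ℕ} (ht : p ^ t ≡ 1 [MOD B]) : 2 * f ∣ t := by
  have h0 : 0 < 2 * f := by have := h.f1; omega
  have hlt := h.lt (Nat.mod_lt t h0)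
  have h1 : p ^ (t % (2 * f)) ≡ 1 [MOD B] := (h.pow_mod t).symm.trans ht
  have h2 : p ^ (t % (2 * f)) = 1 := by
    have h3 := Nat.ModEq.eq_of_lt_of_lt h1 (by omega) (by have := h.B_pos; omega)
    exact h3
  have h4 : t % (2 * f) = 0 := by
    rcases Nat.pow_eq_one.1 h2 with h5 | h5
    · have := h.p2
      omega
    · exact h5
  exact Nat.dvd_of_mod_eq_zero h4

theorem not_neg (h : AB p f d A B) (t : ℕ) : ¬ B ∣ 1 + p ^ t := by
  intro h1
  have h0 : 0 < 2 * f := by have := h.f1; omega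
  have hlt := h.lt (Nat.mod_lt t h0)
  have h2 : 1 + p ^ (t % (2 * f)) ≡ 0 [MOD B] :=
    ((h.pow_mod t).symm.add_left 1).trans ((Nat.modEq_zero_iff_dvd).2 h1)
  have h3 := Nat.le_of_dvd (by omega) ((Nat.modEq_zero_iff_dvd).1 h2)
  omega

/-- `p ^ t ≡ ± 1` modulo `A` for `2 f ∣ t` -/
theorem pow_A (h : AB p f d A B) {t : ℕ} (ht : 2 * f ∣ t) : (p : ZMod A) ^ t = 1 ∨ (p : ZMod A) ^ t = -1 := by
  obtain ⟨c, rfl⟩ := ht
  have h1 : (p : ZMod A) ^ (2 * f) = -1 := by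
    have h2 : ((p ^ (2 * f) + 1 : ℕ) : ZMod A) = 0 := by
      rw [h.hA, Nat.cast_mul, ZMod.natCast_self, mul_zero]
    push_cast at h2
    linear_combination h2
  rw [pow_mul, h1]
  exact neg_one_pow_eq_or _ c

/-- **the main congruences** -/
theorem main (h : AB p f d A B) {k l i j t : ℕ} (hk : k < 4) (hl : l < 4) (hkl : k ≠ l)
    (hiB : i ≡ 1 [MOD B]) (hiA : i ≡ 2 ^ k [MOD A]) (hjB : j ≡ 1 [MOD B]) (hjA : j ≡ 2 ^ l [MOD A])
    (hcase : (j ≡ i * p ^ t [MOD A * B]) ∨ (A * B ∣ j + i * p ^ t)) : False := by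
  rcases hcase with h1 | h1
  · have hB' : j ≡ i * p ^ t [MOD B] := h1.of_dvd (dvd_mul_left B A)
    have hA' : j ≡ i * p ^ t [MOD A] := h1.of_dvd (dvd_mul_right A B)
    have h2 : p ^ t ≡ 1 [MOD B] := by
      have h3 : 1 ≡ 1 * p ^ t [MOD B] := hjB.symm.trans (hB'.trans (hiB.mul_right _))
      rw [one_mul] at h3
      exact h3.symm
    have h3 := h.pow_A (h.dvd_of_mod h2)
    have h4 : ((2 : ZMod A)) ^ l = 2 ^ k * (p : ZMod A) ^ t := by
      have h5 : 2 ^ l ≡ 2 ^ k * p ^ t [MOD A] := hjA.symm.trans (hA'.trans (hiA.mul_right _))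
      have h6 := (ZMod.natCast_eq_natCast_iff _ _ _).2 h5
      push_cast at h6
      exact h6
    have h13 := h.thirteen
    have hle : ∀ {a : ℕ}, a < 4 → (a = 0 ∨ a = 1 ∨ a = 2 ∨ a = 3) := by intro a ha; omega
    rcases h3 with h3 | h3
    · rw [h3, mul_one] at h4
      have h7 : ((2 ^ l : ℕ) : ZMod A) = ((2 ^ k : ℕ) : ZMod A) := by push_cast; exact h4
      rw [ZMod.natCast_eq_natCast_iff] at h7
      have h8 : ∀ {a : ℕ}, a < 4 → 2 ^ a < A := by
        intro a ha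
        have : 2 ^ a ≤ 2 ^ 3 := Nat.pow_le_pow_right (by norm_num) (by omega)
        omega
      have h9 := Nat.ModEq.eq_of_lt_of_lt h7 (h8 hl) (h8 hk)
      exact hkl (Nat.pow_right_injective (le_refl 2) h9).symm
    · rw [h3, mul_neg, mul_one] at h4
      have h7 : ((2 ^ l + 2 ^ k : ℕ) : ZMod A) = 0 := by
        push_cast
        rw [h4]
        ring
      rw [ZMod.natCast_eq_zero_iff] at h7
      have h8 := Nat.le_of_dvd (by positivity) h7
      rcases hle hk with rfl | rfl | rfl | rfl <;> rcases hle hl with rfl | rfl | rfl | rfl <;> omega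
  · apply h.not_neg t
    have h2 : B ∣ j + i * p ^ t := (dvd_mul_left B A).trans h1
    have h3 : j + i * p ^ t ≡ 1 + 1 * p ^ t [MOD B] := hjB.add (hiB.mul_right _)
    rw [one_mul] at h3
    exact (Nat.modEq_zero_iff_dvd).1 (h3.symm.trans ((Nat.modEq_zero_iff_dvd).2 h2))

end AB

end Cfsg.Agent.H964.Opm
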