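import Cfsg.Agent.H964.Opm.Lv
import Cfsg.Agent.H964.Opm.EightNum

/-!
# S3500-OPM: two classes of elements of order `A * B` in `PΩ⁺_8(q)`, `q ≥ 4` (helper964)
-/

set_option autoImplicit false
set_option linter.unusedSectionVars false

namespace Cfsg.Agent.H964.Opm

open Cfsg.Agent.LieClassical.OrthCore Cfsg.Agent.LieClassical.OrthTrans Cfsg.Agent.LieClassical.OrthFinite
  Cfsg.Agent.LieClassical.OrthForms
  Cfsg.Agent.ClassicalGeometry.OrthAut1 Cfsg.Agent.ClassicalGeometry.OrthSemi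
  Cfsg.Agent.ClassicalGeometry.OrthSemiForms Cfsg.Agent.H439.Der Cfsg.Agent.H372
open Module QuadraticMap Matrix Polynomial

section torus

variable {F : Type*} [Field F] {m : ℕ} {L : Type*} [Field L] [Algebra F L]

theorem lv_sq_mem_E [Finite F] (hm : 3 ≤ m) (b : Basis (Fin m) F L) (ζ : Lˣ) : lv b (ζ * ζ) ∈ E (plusForm m F) := by
  have := Fintype.ofFinite F
  rw [map_mul]
  exact sq_mem_E (good_plus hm) (lv_mem_O b ζ)

theorem lv_neg_one (b : Basis (Fin m) F L) (v : Fin m ⊕ Fin m → F) : lv b (-1) v = -v := by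
  rw [lv_apply]
  have h1 : (((-1 : Lˣ) : L), (((-1 : Lˣ)⁻¹ : Lˣ) : L)) = -(1 : L × L) := by
    apply Prod.ext
    · simp
    · simp
  rw [h1, map_neg, map_one]
  rfl

/-- central elements of `E` -/
theorem center_cases {V : Type*} [AddCommGroup V] [Module F V] {Q : QuadraticForm F V} (hG : Good Q) {z : ↥(E Q)}
    (hz : z ∈ Subgroup.center ↥(E Q)) : z = 1 ∨ ∀ v, (z : V ≃ₗ[F] V) v = -v := by
  obtain ⟨c, hc⟩ := center_scalar hG hz
  have h1 := center_sq hG hz
  obtain ⟨x, hx0, -⟩ := hG.sing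
  have h2 : (z : V ≃ₗ[F] V) ((z : V ≃ₗ[F] V) x) = x := congrArg (fun w : ↥(E Q) => (w : V ≃ₗ[F] V) x) h1
  rw [hc, hc, smul_smul] at h2
  have h3 : (c * c - 1) • x = 0 := by rw [sub_smul, one_smul, h2, sub_self]
  have h4 : c * c = 1 := by
    rcases smul_eq_zero.1 h3 with h5 | h5
    · exact sub_eq_zero.1 h5
    · exact absurd h5 hx0
  rcases mul_self_eq_one_iff.1 h4 with h5 | h5
  · left
    apply Subtype.ext
    ext v
    rw [hc, h5, one_smul]
    rfl
  · right
    intro v
    rw [hc, h5, neg_smul, one_smul]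

end torus

section main

variable {F : Type} [Field F] [Fintype F]

/-- **Two classes of elements of order `A * B`.** -/
theorem exists_two_AB {p f d A B : ℕ} (hp : p.Prime) (hF : Fintype.card F = p ^ f) (h : AB p f d A B) :
    ∃ x y : P (plusForm 4 F), orderOf x = A * B ∧ orderOf y = A * B ∧
      ∀ φ : P (plusForm 4 F) ≃* P (plusForm 4 F), φ x ≠ y := by
  have : Fact p.Prime := ⟨hp⟩
  have hpc : CharP F p := by
    obtain ⟨r, hr⟩ := CharP.exists F
    obtain ⟨n, hrp, hn⟩ := FiniteField.card F r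
    have h1 : p ∣ r ^ (n : ℕ) := by
      rw [← hn, hF]
      exact dvd_pow_self p (by have := h.f1; omega)
    rw [(Nat.prime_dvd_prime_iff_eq hp hrp).1 (hp.dvd_of_dvd_pow h1)]
    exact hr
  have : NeZero 4 := ⟨by norm_num⟩
  have hG : Good (plusForm 4 F) := good_plus (by norm_num)
  have hcF : Nat.card F = p ^ f := by rw [Nat.card_eq_fintype_card, hF]
  have hcL : Nat.card (FiniteField.Extension F p 4) = p ^ (4 * f) := by
    rw [FiniteField.natCard_extension, hcF, ← pow_mul, mul_comm]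
  have hL : finrank F (FiniteField.Extension F p 4) = 4 := FiniteField.finrank_extension F p 4
  let b : Basis (Fin 4) F (FiniteField.Extension F p 4) := finBasisOfFinrankEq F _ hL
  have hA13 := h.thirteen
  have hB2 := h.B_pos
  have hABpos : 0 < A * B := Nat.mul_pos (by omega) (by omega)
  have hd2 : d = 1 ∨ d = 2 := by
    rcases h.hd with ⟨h1, -⟩ | ⟨h1, -⟩
    · exact Or.inl h1
    · exact Or.inr h1
  have hdpos : 0 < d := by rcases hd2 with h1 | h1 <;> omega
  -- the order of the multiplicative group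
  have hq4 : p ^ (4 * f) - 1 = d * (d * (A * B)) := by
    have e1 : p ^ (4 * f) = p ^ (2 * f) * p ^ (2 * f) := by rw [← pow_add]; congr 1; ring
    have e2 := h.hA
    have e3 := h.hB
    have e4 : p ^ (2 * f) * p ^ (2 * f) = d * (d * (A * B)) + 1 := by
      have e5 : d * (d * (A * B)) = (d * A) * (d * B) := by ring
      rw [e5, ← e2]
      have e6 : d * B = p ^ (2 * f) - 1 := by omega
      rw [e6]
      obtain ⟨c, hc⟩ : ∃ c, p ^ (2 * f) = c + 1 := ⟨p ^ (2 * f) - 1, by have := h.sq; omega⟩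
      rw [hc, Nat.add_sub_cancel]
      ring
    rw [e1, e4, Nat.add_sub_cancel]
  obtain ⟨η, hη⟩ := IsCyclic.exists_generator (α := (FiniteField.Extension F p 4)ˣ)
  have hoη : orderOf η = d * (d * (A * B)) := by
    rw [orderOf_eq_card_of_forall_mem_zpowers hη, Nat.card_units, hcL, hq4]
  -- `ζ = η ^ 2`
  have hoζ : orderOf (η * η) = d * (A * B) := by
    rw [← pow_two]
    rcases h.hd with ⟨h1, he⟩ | ⟨h1, -⟩
    · subst h1
      rw [Nat.Coprime.orderOf_pow, hoη, one_mul]
      rw [hoη, ← hq4]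
      have h2 : Even (p ^ (4 * f)) := he.pow_of_ne_zero (by have := h.f1; omega)
      have h3 : Odd (p ^ (4 * f) - 1) := Nat.Even.sub_odd (Nat.one_le_pow _ _ hp.pos) h2 odd_one
      exact (Nat.coprime_two_right.2 h3)
    · subst h1
      rw [orderOf_pow_of_dvd (by norm_num) (by rw [hoη]; exact dvd_mul_right _ _), hoη,
        Nat.mul_div_cancel_left _ (by norm_num)]
  set ζ := η * η with hζ
  let X : ↥(E (plusForm 4 F)) := ⟨lv b ζ, lv_sq_mem_E (by norm_num) b η⟩
  have hXpow : ∀ n : ℕ, ((X ^ n : ↥(E (plusForm 4 F))) : _ ≃ₗ[F] _) = lv b (ζ ^ n) := by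
    intro n
    rw [map_pow]
    rfl
  have hXinj : ∀ i j : ℕ, X ^ i = X ^ j → ζ ^ i = ζ ^ j := by
    intro i j hij
    apply lv_injective b
    rw [← hXpow, ← hXpow, hij]
  have hneg : d = 2 → ζ ^ (A * B) = -1 := by
    intro h1
    subst h1
    have h3 : (ζ ^ (A * B)) ^ 2 = 1 := by
      rw [← pow_mul, ← orderOf_dvd_iff_pow_eq_one, hoζ, mul_comm]
    have h4 : ζ ^ (A * B) ≠ 1 := by
      intro h5
      have h6 := Nat.le_of_dvd hABpos (hoζ ▸ orderOf_dvd_of_pow_eq_one h5)
      omega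
    have h5 : ((ζ ^ (A * B) : (FiniteField.Extension F p 4)ˣ) : FiniteField.Extension F p 4) *
        ((ζ ^ (A * B) : (FiniteField.Extension F p 4)ˣ) : FiniteField.Extension F p 4) = 1 := by
      rw [← Units.val_mul, ← pow_two, h3, Units.val_one]
    rcases mul_self_eq_one_iff.1 h5 with h6 | h6
    · exact absurd (Units.ext h6) h4
    · exact Units.ext (by rw [h6, Units.val_neg, Units.val_one])
  -- central elements
  have hXN : X ^ (A * B) ∈ Subgroup.center ↥(E (plusForm 4 F)) := by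
    rcases hd2 with h1 | h1
    · subst h1
      have h2 : ζ ^ (A * B) = 1 := by
        rw [← orderOf_dvd_iff_pow_eq_one, hoζ, one_mul]
      have h3 : X ^ (A * B) = 1 := by
        apply Subtype.ext
        rw [hXpow, h2, map_one]
        rfl
      rw [h3]
      exact Subgroup.one_mem _
    · have h2 := hneg h1
      rw [Subgroup.mem_center_iff]
      intro Y
      apply Subtype.ext
      refine LinearEquiv.ext fun v => ?_
      show Y.1 ((X ^ (A * B)).1 v) = (X ^ (A * B)).1 (Y.1 v)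
      rw [hXpow, h2, lv_neg_one, lv_neg_one, map_neg]
  have hcen : ∀ z ∈ Subgroup.center ↥(E (plusForm 4 F)), z = 1 ∨ z = X ^ (A * B) := by
    intro z hz
    rcases center_cases hG hz with h1 | h1
    · exact Or.inl h1
    · rcases h.hd with ⟨-, he⟩ | ⟨h2, -⟩
      · left
        have hp2 : p = 2 := hp.even_iff.1 he
        subst hp2
        apply Subtype.ext
        ext v
        have h3 : z.1 v = v := by
          rw [h1]
          funext i
          exact CharTwo.neg_eq (v i)
        rw [h3]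
        rfl
      · right
        subst h2
        apply Subtype.ext
        ext v
        rw [h1, hXpow, hneg rfl, lv_neg_one]
  -- the order
  have hx : orderOf (QuotientGroup.mk X : P (plusForm 4 F)) = A * B := by
    apply Nat.dvd_antisymm
    · apply orderOf_dvd_of_pow_eq_one
      rw [← QuotientGroup.mk_pow]
      exact (QuotientGroup.eq_one_iff _).2 hXN
    · have h1 := pow_orderOf_eq_one (QuotientGroup.mk X : P (plusForm 4 F))
      rw [← QuotientGroup.mk_pow] at h1
      rcases hcen _ ((QuotientGroup.eq_one_iff _).1 h1) with h2 | h2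
      · have h3 := hXinj _ 0 (by rw [h2, pow_zero])
        rw [pow_zero] at h3
        have h4 := orderOf_dvd_of_pow_eq_one h3
        rw [hoζ] at h4
        exact (dvd_mul_left _ _).trans h4
      · have h3 := hXinj _ _ h2
        have h4 := pow_eq_pow_iff_modEq.1 h3
        rw [hoζ] at h4
        have h5 := h4.of_dvd (dvd_mul_left (A * B) d)
        exact (Nat.modEq_zero_iff_dvd).1 (h5.trans ((Nat.modEq_zero_iff_dvd).2 dvd_rfl))
  by_contra hcon
  push Not at hcon
  -- the exponents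
  let e : ℕ → ℕ := fun k => (Nat.chineseRemainder h.cop (2 ^ k) 1 : ℕ)
  have heA : ∀ k, e k ≡ 2 ^ k [MOD A] := fun k => (Nat.chineseRemainder h.cop (2 ^ k) 1).2.1
  have heB : ∀ k, e k ≡ 1 [MOD B] := fun k => (Nat.chineseRemainder h.cop (2 ^ k) 1).2.2
  have hecop : ∀ k, Nat.Coprime (A * B) (e k) := by
    intro k
    apply Nat.Coprime.mul_left
    · have h1 : Nat.Coprime A (2 ^ k) := (Nat.coprime_two_right.2 h.odd).pow_right k
      rw [Nat.coprime_iff_gcd_eq_one] at h1 ⊢
      rw [Nat.gcd_comm, (heA k).gcd_eq, Nat.gcd_comm]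
      exact h1
    · rw [Nat.coprime_iff_gcd_eq_one, Nat.gcd_comm, (heB k).gcd_eq, Nat.gcd_one_left]
  have hφ : ∀ k : Fin 4, ∃ φ : MulAut (P (plusForm 4 F)), φ (QuotientGroup.mk X) = (QuotientGroup.mk X) ^ e k := by
    intro k
    obtain ⟨φ, hφ⟩ := hcon (QuotientGroup.mk X) ((QuotientGroup.mk X) ^ e k) hx (by
      rw [Nat.Coprime.orderOf_pow, hx]
      rw [hx]
      exact hecop k)
    exact ⟨φ, hφ⟩
  choose φ hφ using hφ
  -- two of them in the same coset
  have hidx := Cfsg.Agent.AutOrth.Final.index_plus_four (F := F)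
  have hfin : Finite (MulAut (P (plusForm 4 F)) ⧸ (Psi (plusForm 4 F)).range) :=
    Nat.finite_of_card_ne_zero (by
      show (Psi (plusForm 4 F)).range.index ≠ 0
      rw [hidx]
      norm_num)
  obtain ⟨k, l, hkl, hc⟩ : ∃ k l : Fin 4, k ≠ l ∧
      (QuotientGroup.mk (φ k)⁻¹ : MulAut (P (plusForm 4 F)) ⧸ (Psi (plusForm 4 F)).range) =
        QuotientGroup.mk (φ l)⁻¹ := by
    by_contra hinj
    push Not at hinj
    have h1 : Function.Injective (fun k : Fin 4 =>
        (QuotientGroup.mk (φ k)⁻¹ : MulAut (P (plusForm 4 F)) ⧸ (Psi (plusForm 4 F)).range)) := by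
      intro k l hkl
      by_contra hne
      exact hinj k l hne hkl
    have h2 := Nat.card_le_card_of_injective _ h1
    have h3 : Nat.card (MulAut (P (plusForm 4 F)) ⧸ (Psi (plusForm 4 F)).range) = 3 := hidx
    rw [h3, Nat.card_eq_fintype_card, Fintype.card_fin] at h2
    omega
  rw [QuotientGroup.eq, inv_inv] at hc
  obtain ⟨M, hM⟩ := hc
  have hMx : Psi (plusForm 4 F) M (QuotientGroup.mk (X ^ e l)) = QuotientGroup.mk (X ^ e k) := by
    rw [hM, QuotientGroup.mk_pow, QuotientGroup.mk_pow, ← hφ l, ← hφ k, MulAut.mul_apply, MulAut.inv_apply_self]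
  -- lift
  obtain ⟨j, hj, hjA, hjB⟩ : ∃ j, conjE (plusForm 4 F) M (X ^ e l) = X ^ j ∧ j ≡ 2 ^ (k : ℕ) [MOD A] ∧
      j ≡ 1 [MOD B] := by
    rw [Psi_mk, eq_comm, QuotientGroup.eq] at hMx
    rcases hcen _ hMx with h1 | h1
    · exact ⟨e k, (inv_mul_eq_one.1 h1).symm, heA k, heB k⟩
    · refine ⟨e k + A * B, ?_, ?_, ?_⟩
      · rw [inv_mul_eq_iff_eq_mul] at h1
        rw [h1, pow_add]
      · have h2 : A * B ≡ 0 [MOD A] := (Nat.modEq_zero_iff_dvd).2 (dvd_mul_right A B)
        exact ((heA k).add h2).trans (by rw [add_zero])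
      · have h2 : A * B ≡ 0 [MOD B] := (Nat.modEq_zero_iff_dvd).2 (dvd_mul_left B A)
        exact ((heB k).add h2).trans (by rw [add_zero])
  obtain ⟨σ, c, hσ⟩ := M.2
  obtain ⟨t, ht⟩ := lv_conj hcF b (ζ₁ := ζ ^ e l) (ζ₂ := ζ ^ j) hσ (fun v => by
    rw [← hXpow, ← hXpow, ← hj, coe_conjE, conjLin_apply'])
  refine h.main (k := l) (l := k) (t := t) l.2 k.2 (fun hlk => hkl (Fin.ext hlk.symm)) (heB l) (heA l) hjB hjA ?_
  rcases ht with ht | ht
  · left
    rw [← pow_mul] at ht
    have h1 := pow_eq_pow_iff_modEq.1 ht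
    rw [hoζ] at h1
    exact h1.of_dvd (dvd_mul_left (A * B) d)
  · right
    rw [inv_pow, eq_inv_iff_mul_eq_one, ← pow_mul, ← pow_add] at ht
    have h1 := orderOf_dvd_of_pow_eq_one ht
    rw [hoζ] at h1
    exact (dvd_mul_left _ _).trans h1

end main

end Cfsg.Agent.H964.Opm
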