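import Cfsg.Agent.H964.Opm.Ev

/-!
# S3500-OPM: stabilizers of nonsingular points and subgroups with one class of subgroups of order `r` (helper964)

* `SpecA R` : `R ≤ PΩ(Q)` stabilizes a nonsingular point
* `two_of_even` : `m ≥ 5` even, `SpecA R` or `RPow R r`: `Two`
* `twoT_of_even` : `m ≥ 4` even: `TwoT`
-/

set_option autoImplicit false
set_option linter.unusedSectionVars false

namespace Cfsg.Agent.H964.Opm

open Cfsg.Agent.LieClassical.OrthCore Cfsg.Agent.LieClassical.OrthTrans Cfsg.Agent.LieClassical.OrthFinite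
  Cfsg.Agent.LieClassical.OrthForms
  Cfsg.Agent.ClassicalGeometry.OrthAut1 Cfsg.Agent.ClassicalGeometry.OrthSemi
  Cfsg.Agent.ClassicalGeometry.OrthSemiForms Cfsg.Agent.H439.Der Cfsg.Agent.H372
open Module QuadraticMap Matrix

section gen

variable {F V : Type*} [Field F] [AddCommGroup V] [Module F V] {Q : QuadraticForm F V}

/-- `R` stabilizes a nonsingular point -/
def SpecA (R : Subgroup (P Q)) : Prop :=
  ∃ v : V, Q v ≠ 0 ∧ ∀ X : ↥(E Q), (QuotientGroup.mk X : P Q) ∈ R → ∃ c : F, (X : V ≃ₗ[F] V) v = c • v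

theorem eq_of_mk (hG : Good Q) {v : ℕ} (hv : Odd v) {X Y : ↥(E Q)} (hX : X ^ v = 1) (hY : Y ^ v = 1)
    (h : (QuotientGroup.mk X : P Q) = QuotientGroup.mk Y) : X = Y := by
  rw [QuotientGroup.eq] at h
  have h1 := center_sq hG h
  have hcomm : Commute X (X⁻¹ * Y) := Subgroup.mem_center_iff.1 h X
  have h2 : Y = X * (X⁻¹ * Y) := by group
  have h3 : Y ^ v = X ^ v * (X⁻¹ * Y) ^ v := by
    conv_lhs => rw [h2]
    exact hcomm.mul_pow v
  rw [hY, hX, one_mul] at h3
  obtain ⟨k, hk⟩ := hv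
  rw [hk, pow_succ, pow_mul, pow_two, h1, one_pow, one_mul] at h3
  rw [← h3, mul_one] at h2
  exact h2.symm

theorem pow_apply_smul {X : ↥(E Q)} {v : V} {c : F} (h : (X : V ≃ₗ[F] V) v = c • v) (n : ℕ) :
    ((X ^ n : ↥(E Q)) : V ≃ₗ[F] V) v = c ^ n • v := by
  induction n with
  | zero => rw [pow_zero, pow_zero, one_smul]; rfl
  | succ n ih =>
    rw [pow_succ']
    show (X : V ≃ₗ[F] V) (((X ^ n : ↥(E Q)) : V ≃ₗ[F] V) v) = _
    rw [ih, map_smul, h, smul_smul, pow_succ]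

/-- elements of odd order prime to `q - 1` in a point stabilizer fix the vector -/
theorem fixes_of_smul [Fintype F] {r : ℕ} (hr : r.Coprime (Fintype.card F - 1)) {X : ↥(E Q)} (hX : X ^ r = 1) {v : V}
    (hv0 : v ≠ 0) {c : F} (h : (X : V ≃ₗ[F] V) v = c • v) : (X : V ≃ₗ[F] V) v = v := by
  have h1 := pow_apply_smul h r
  rw [hX] at h1
  have h2 : (c ^ r - 1) • v = 0 := by
    rw [sub_smul, one_smul, ← h1, sub_eq_zero]
    rfl
  have h3 : c ^ r = 1 := by
    rcases smul_eq_zero.1 h2 with h4 | h4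
    · exact sub_eq_zero.1 h4
    · exact absurd h4 hv0
  have hc0 : c ≠ 0 := by
    rintro rfl
    rw [zero_smul] at h
    exact hv0 ((X : V ≃ₗ[F] V).map_eq_zero_iff.1 h)
  have h4 : c ^ (Fintype.card F - 1) = 1 := FiniteField.pow_card_sub_one_eq_one c hc0
  have h5 : c = 1 := orderOf_eq_one_iff.1 (Nat.eq_one_of_dvd_coprimes hr (orderOf_dvd_of_pow_eq_one h3)
    (orderOf_dvd_of_pow_eq_one h4))
  rw [h, h5, one_smul]

end gen

section plus

variable {F : Type} [Field F] [Fintype F] {m : ℕ}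

/-- the conditions on `r` -/
structure Rr (F : Type) [Field F] [Fintype F] (m r : ℕ) : Prop where
  prime : r.Prime
  two : 2 < r
  ne : (r : F) ≠ 0
  ord : (Even m ∧ orderOf (Fintype.card F : ZMod r) = m) ∨
    (m = 6 ∧ orderOf (Fintype.card F : ZMod r) = 3)
  even : Even m
  dvd : r ∣ Fintype.card F ^ m - 1
  not : ¬ r ∣ Fintype.card F ^ 2 - 1

theorem Rr.coprime_sub {r : ℕ} (h : Rr F m r) : Nat.Coprime r (Fintype.card F - 1) := by
  rw [h.prime.coprime_iff_not_dvd]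
  intro h1
  apply h.not
  have := Nat.sq_sub_sq (Fintype.card F) 1
  rw [one_pow] at this
  rw [this]
  exact Dvd.dvd.mul_left h1 _

theorem Rr.coprime_add {r : ℕ} (h : Rr F m r) : Nat.Coprime r (Fintype.card F + 1) := by
  rw [h.prime.coprime_iff_not_dvd]
  intro h1
  apply h.not
  have := Nat.sq_sub_sq (Fintype.card F) 1
  rw [one_pow] at this
  rw [this]
  exact Dvd.dvd.mul_right h1 _

theorem Rr.coprime_char {r p : ℕ} (h : Rr F m r) (hp : p.Prime) [CharP F p] : Nat.Coprime r p := by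
  rw [Nat.coprime_primes h.prime hp]
  rintro rfl
  exact h.ne (CharP.cast_eq_zero F r)

/-- **`m ≥ 5`: `Two`** -/
theorem two_of_even (hm : 5 ≤ m) {r : ℕ} (h : Rr F m r)
    {R : Subgroup (P (plusForm m F))} (hR : SpecA R ∨ RPow R r) : Two (P (plusForm m F)) R := by
  obtain ⟨p, hpc⟩ := CharP.exists F
  obtain ⟨f, hp, hF⟩ := FiniteField.card F p
  have hG : Good (plusForm m F) := good_plus (by omega)
  have hodd : Odd r := h.prime.odd_of_ne_two (by have := h.two; omega)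
  obtain ⟨X₁, W₁, h1, hf1, hW1, hc1, hcom1⟩ := exists_x1 (F := F) (m := m) (by omega) hp h.prime h.two h.ne h.ord
  obtain ⟨X₂, W₂, h2, hf2, hW2, hc2, hcom2⟩ := exists_x2 (F := F) (m := m) (by omega) h.even h.prime h.dvd h.not
  have hX1 : X₁ ^ r = 1 := by rw [← h1]; exact pow_orderOf_eq_one X₁
  have hX2 : X₂ ^ r = 1 := by rw [← h2]; exact pow_orderOf_eq_one X₂
  have hsurj := Cfsg.Agent.AutOrth.Final.surjective_plus (F := F) hm
  rcases hR with ⟨v, hv, hR⟩ | hR
  · have hv0 : v ≠ 0 := by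
      rintro rfl
      exact hv (QuadraticMap.map_zero _)
    refine two_of_missing (x := QuotientGroup.mk X₂) (w := QuotientGroup.mk W₂) h.coprime_add ?_ ?_ (mk_ne_one hc2)
      ?_ fun φ hφ => ?_
    · rw [← QuotientGroup.mk_pow, hX2, QuotientGroup.mk_one]
    · rw [← QuotientGroup.mk_pow, hW2, QuotientGroup.mk_one]
    · exact hcom2.map (QuotientGroup.mk' (Subgroup.center ↥(E (plusForm m F))))
    · obtain ⟨M, hM⟩ := hsurj φ
      obtain ⟨Y, hY, hYr⟩ := exists_lift hG hodd (x := φ (QuotientGroup.mk X₂)) (by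
        rw [← map_pow, ← QuotientGroup.mk_pow, hX2, QuotientGroup.mk_one, map_one])
      rw [← hY] at hφ
      obtain ⟨c, hc⟩ := hR Y hφ
      refine hf2 (fixes_of_psi hG hodd hX2 hYr (M := M) ?_ ⟨v, hv0, fixes_of_smul h.coprime_sub hYr hv0 hc⟩)
      rw [hM]
      exact hY.symm
  · refine two_of_cyc h.prime.pos (orderOf_mk_eq hG h.prime (by have := h.two; omega) h1)
      (orderOf_mk_eq hG h.prime (by have := h.two; omega) h2) (fun φ n hφ => ?_) (h.coprime_char hp) h.coprime_add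
      (w₁ := QuotientGroup.mk W₁) (w₂ := QuotientGroup.mk W₂) ?_ ?_ (mk_ne_one hc1) (mk_ne_one hc2)
      (hcom1.map (QuotientGroup.mk' (Subgroup.center ↥(E (plusForm m F)))))
      (hcom2.map (QuotientGroup.mk' (Subgroup.center ↥(E (plusForm m F))))) hR
    · obtain ⟨M, hM⟩ := hsurj φ
      refine hf2 (fixes_of_psi hG hodd hX2 (Y := X₁ ^ n) ?_ (M := M) ?_ (hf1.pow n))
      · rw [← pow_mul, mul_comm, pow_mul, hX1, one_pow]
      · rw [hM, QuotientGroup.mk_pow]
        exact hφ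
    · rw [← QuotientGroup.mk_pow, hW1, QuotientGroup.mk_one]
    · rw [← QuotientGroup.mk_pow, hW2, QuotientGroup.mk_one]

/-- fixed vectors and conjugation -/
theorem fixes_conj {X G : ↥(E (plusForm m F))} (h : Fixes (G * X * G⁻¹)) : Fixes X := by
  obtain ⟨v, hv0, hv⟩ := h
  refine ⟨((G⁻¹ : ↥(E (plusForm m F))) : _ ≃ₗ[F] _) v, ?_, ?_⟩
  · intro h0
    exact hv0 (((G⁻¹ : ↥(E (plusForm m F))).1).map_eq_zero_iff.1 h0)
  · apply (G.1).injective
    have h1 : (G.1) (((G⁻¹ : ↥(E (plusForm m F))).1) v) = v := by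
      show (G.1 * (G⁻¹ : ↥(E (plusForm m F))).1) v = v
      have h2 : G.1 * (G⁻¹ : ↥(E (plusForm m F))).1 = 1 := congrArg Subtype.val (mul_inv_cancel G)
      rw [h2]
      rfl
    exact hv.trans h1.symm

/-- **`m ≥ 4`: `TwoT`** -/
theorem twoT_of_even (hm : 4 ≤ m) {r : ℕ} (h : Rr F m r)
    {R : Subgroup (P (plusForm m F))} (hR : SpecA R ∨ RPow R r) : TwoT (P (plusForm m F)) R := by
  obtain ⟨p, hpc⟩ := CharP.exists F
  obtain ⟨f, hp, hF⟩ := FiniteField.card F p
  have hG : Good (plusForm m F) := good_plus (by omega)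
  have hodd : Odd r := h.prime.odd_of_ne_two (by have := h.two; omega)
  obtain ⟨X₁, W₁, h1, hf1, hW1, hc1, hcom1⟩ := exists_x1 (F := F) (m := m) (by omega) hp h.prime h.two h.ne h.ord
  obtain ⟨X₂, W₂, h2, hf2, hW2, hc2, hcom2⟩ := exists_x2 (F := F) (m := m) (by omega) h.even h.prime h.dvd h.not
  have hX1 : X₁ ^ r = 1 := by rw [← h1]; exact pow_orderOf_eq_one X₁
  have hX2 : X₂ ^ r = 1 := by rw [← h2]; exact pow_orderOf_eq_one X₂
  rcases hR with ⟨v, hv, hR⟩ | hR
  · have hv0 : v ≠ 0 := by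
      rintro rfl
      exact hv (QuadraticMap.map_zero _)
    refine twoT_of_missing (x := QuotientGroup.mk X₂) (w := QuotientGroup.mk W₂) h.coprime_add ?_ ?_ (mk_ne_one hc2)
      ?_ fun g hg => ?_
    · rw [← QuotientGroup.mk_pow, hX2, QuotientGroup.mk_one]
    · rw [← QuotientGroup.mk_pow, hW2, QuotientGroup.mk_one]
    · exact hcom2.map (QuotientGroup.mk' (Subgroup.center ↥(E (plusForm m F))))
    · obtain ⟨G, rfl⟩ := QuotientGroup.mk_surjective g
      rw [← QuotientGroup.mk_mul, ← QuotientGroup.mk_inv, ← QuotientGroup.mk_mul] at hg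
      obtain ⟨c, hc⟩ := hR _ hg
      have hYr : (G * X₂ * G⁻¹) ^ r = 1 := by rw [conj_pow, hX2, mul_one, mul_inv_cancel]
      exact hf2 (fixes_conj ⟨v, hv0, fixes_of_smul h.coprime_sub hYr hv0 hc⟩)
  · refine twoT_of_cyc h.prime.pos (orderOf_mk_eq hG h.prime (by have := h.two; omega) h1)
      (orderOf_mk_eq hG h.prime (by have := h.two; omega) h2) (fun g n hg => ?_) (h.coprime_char hp) h.coprime_add
      (w₁ := QuotientGroup.mk W₁) (w₂ := QuotientGroup.mk W₂) ?_ ?_ (mk_ne_one hc1) (mk_ne_one hc2)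
      (hcom1.map (QuotientGroup.mk' (Subgroup.center ↥(E (plusForm m F)))))
      (hcom2.map (QuotientGroup.mk' (Subgroup.center ↥(E (plusForm m F))))) hR
    · obtain ⟨G, rfl⟩ := QuotientGroup.mk_surjective g
      rw [← QuotientGroup.mk_mul, ← QuotientGroup.mk_inv, ← QuotientGroup.mk_mul, ← QuotientGroup.mk_pow] at hg
      have h3 := eq_of_mk hG hodd (by rw [conj_pow, hX2, mul_one, mul_inv_cancel])
        (by rw [← pow_mul, mul_comm, pow_mul, hX1, one_pow]) hg
      exact hf2 (fixes_conj (G := G) (h3 ▸ hf1.pow n))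
    · rw [← QuotientGroup.mk_pow, hW1, QuotientGroup.mk_one]
    · rw [← QuotientGroup.mk_pow, hW2, QuotientGroup.mk_one]

end plus

end Cfsg.Agent.H964.Opm
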