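import Cfsg.Agent.H264.FKS.TwoCl
import Cfsg.Agent.H964.Opm.Ev2

/-!
# S3500-OPM: transfer to `POmega` (helper964)
-/

set_option autoImplicit false
set_option linter.unusedSectionVars false

namespace Cfsg.Agent.H964.Opm

open Cfsg Cfsg.Agent.LieClassical.OrthCore Cfsg.Agent.LieClassical.OrthTrans Cfsg.Agent.LieClassical.OrthFinite
  Cfsg.Agent.LieClassical.OrthForms
  Cfsg.Agent.ClassicalGeometry.OrthAut1 Cfsg.Agent.ClassicalGeometry.OrthSemi
  Cfsg.Agent.ClassicalGeometry.OrthSemiForms Cfsg.Agent.H439.Der Cfsg.Agent.H264.FKS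
open Cfsg.Agent.H884.El (pre mem_pre)
open Module Matrix

section tr

variable {ι : Type} [Fintype ι] [DecidableEq ι] {F : Type} [Field F] {Q : QuadraticForm F (ι → F)}

/-- the subgroup of `P Q` -/
noncomputable def toP (hG : Good Q) (M : Subgroup (POmega F ⇑Q)) : Subgroup (P Q) := M.comap (pomegaEquiv hG).symm.toMonoidHom

theorem specA_toP (hG : Good Q) {M : Subgroup (POmega F ⇑Q)} {v : ι → F} (hv : Q v ≠ 0)
    (h : pre (⇑Q) M ≤ Geo.subspaceStabilizer (Submodule.span F {v})) : SpecA (toP hG M) := by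
  refine ⟨v, hv, fun X hX => ?_⟩
  obtain ⟨g, rfl⟩ := ((omegaEquiv Q).trans (MulEquiv.subgroupCongr hG.commutator_eq_E)).surjective X
  have h1 : (pomegaEquiv hG) (QuotientGroup.mk g) = QuotientGroup.mk
      (((omegaEquiv Q).trans (MulEquiv.subgroupCongr hG.commutator_eq_E)) g) := rfl
  rw [← h1] at hX
  have h2 : (pomegaEquiv hG).symm ((pomegaEquiv hG) (QuotientGroup.mk g)) ∈ M := hX
  rw [MulEquiv.symm_apply_apply] at h2
  have h3 := h (mem_pre.2 h2)
  have h4 := (Cfsg.Agent.H884.OmegaGL.mem_subspaceStabilizer.1 h3) v (Submodule.mem_span_singleton_self v)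
  obtain ⟨c, hc⟩ := Submodule.mem_span_singleton.1 h4
  exact ⟨c, hc.symm⟩

theorem rpow_toP [Finite F] (hG : Good Q) {M : Subgroup (POmega F ⇑Q)} {r : ℕ} (hr : r.Prime) (h : Cyc r M) :
    RPow (toP hG M) r := by
  have := Fact.mk hr
  have hfin : Finite (POmega F ⇑Q) := by
    have : Finite (Matrix.GeneralLinearGroup ι F) := inferInstance
    exact Quotient.finite _
  intro a b ha hb
  let e : P Q ≃* POmega F ⇑Q := (pomegaEquiv hG).symm
  have hea : ∀ x : toP hG M, e (x : P Q) ∈ M := fun x => x.2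
  have ho : ∀ x : toP hG M, orderOf (⟨e x, hea x⟩ : M) = orderOf x := by
    intro x
    rw [Subgroup.orderOf_mk, MulEquiv.orderOf_eq, Subgroup.orderOf_coe]
  obtain ⟨c, j, hc⟩ := h.exists_conj (a := ⟨e a, hea a⟩) (b := ⟨e b, hea b⟩) (by rw [ho, ha]) (by rw [ho, hb])
  have hcm : e.symm c ∈ toP hG M := by
    show e (e.symm c) ∈ M
    rw [MulEquiv.apply_symm_apply]
    exact c.2
  refine ⟨⟨e.symm c, hcm⟩, j, Subtype.ext ?_⟩
  have h1 : e (b : P Q) = (c : POmega F ⇑Q) * e (a : P Q) ^ j * (c : POmega F ⇑Q)⁻¹ := congrArg Subtype.val hc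
  apply e.injective
  show e (b : P Q) = e (e.symm c * (a : P Q) ^ j * (e.symm c)⁻¹)
  rw [h1, map_mul, map_mul, map_inv, map_zpow, MulEquiv.apply_symm_apply]

theorem two_of_toP (hG : Good Q) {M : Subgroup (POmega F ⇑Q)} (h : Two (P Q) (toP hG M)) : Two (POmega F ⇑Q) M :=
  Two.congr (pomegaEquiv hG).symm h

theorem twoT_of_toP (hG : Good Q) {M : Subgroup (POmega F ⇑Q)} (h : TwoT (P Q) (toP hG M)) : TwoT (POmega F ⇑Q) M :=
  TwoT.congr (pomegaEquiv hG).symm h

end tr

section plus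

variable {F : Type} [Field F] [Fintype F] {m : ℕ}

/-- the special subgroups -/
def Spec (m r : ℕ) {F : Type} [Field F] (M : Subgroup (POmega F (quadFormPlus m F))) : Prop :=
  (∃ v, quadFormPlus m F v ≠ 0 ∧ pre (quadFormPlus m F) M ≤ Geo.subspaceStabilizer (Submodule.span F {v})) ∨ Cyc r M

theorem two_of_spec (hm : 5 ≤ m) {r : ℕ} (h : Rr F m r) {M : Subgroup (POmega F (quadFormPlus m F))}
    (hM : Spec m r M) : Two (POmega F (quadFormPlus m F)) M := by
  have key : ∀ M : Subgroup (POmega F ⇑(plusForm m F)),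
      ((∃ v, (plusForm m F) v ≠ 0 ∧ pre (⇑(plusForm m F)) M ≤ Geo.subspaceStabilizer (Submodule.span F {v})) ∨
        Cyc r M) → Two (POmega F ⇑(plusForm m F)) M := by
    intro M hM
    have hG : Good (plusForm m F) := good_plus (by omega)
    refine two_of_toP hG (two_of_even hm h ?_)
    rcases hM with ⟨v, hv, hM⟩ | hM
    · exact Or.inl (specA_toP hG hv hM)
    · exact Or.inr (rpow_toP hG h.prime hM)
  rw [coe_plusForm] at key
  exact key M hM

theorem twoT_of_spec (hm : 4 ≤ m) {r : ℕ} (h : Rr F m r) {M : Subgroup (POmega F (quadFormPlus m F))}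
    (hM : Spec m r M) : TwoT (POmega F (quadFormPlus m F)) M := by
  have key : ∀ M : Subgroup (POmega F ⇑(plusForm m F)),
      ((∃ v, (plusForm m F) v ≠ 0 ∧ pre (⇑(plusForm m F)) M ≤ Geo.subspaceStabilizer (Submodule.span F {v})) ∨
        Cyc r M) → TwoT (POmega F ⇑(plusForm m F)) M := by
    intro M hM
    have hG : Good (plusForm m F) := good_plus (by omega)
    refine twoT_of_toP hG (twoT_of_even hm h ?_)
    rcases hM with ⟨v, hv, hM⟩ | hM
    · exact Or.inl (specA_toP hG hv hM)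
    · exact Or.inr (rpow_toP hG h.prime hM)
  rw [coe_plusForm] at key
  exact key M hM

end plus

end Cfsg.Agent.H964.Opm
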