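import Cfsg.Agent.H997.PF.RowsCl
import Cfsg.Agent.H964.Opm.O83
import Cfsg.Agent.H964.Opm.Tr
import Cfsg.Agent.H264.FKS.TwoSix

/-!
# S3500: the row `PΩ^+_{2m}(q)`, `m ≥ 5`
-/

set_option autoImplicit false

namespace Cfsg.Agent.H964.Opm

open Cfsg Cfsg.Geo Cfsg.Agent.H439.Der Cfsg.Agent.OrdDiv Cfsg.Agent.H436 Cfsg.Agent.H264.FKS Cfsg.Agent.H915.GN
open Cfsg.Agent.H938.Sax (PGap)

variable {F : Type} [Field F] [Fintype F] {m : ℕ}

theorem rr_of_prim {p f r : ℕ} (hp : p.Prime) (hf : 1 ≤ f) (hF : Fintype.card F = p ^ f) (hm : 4 ≤ m) (he : Even m)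
    (h : Prim (p ^ f) m r) : Rr F m r := by
  have := Fact.mk h.prime
  have hq : 1 ≤ p ^ f := Nat.one_le_pow _ _ hp.pos
  have h5 := five_le_of_prim (by omega) h
  have hor : orderOf ((p ^ f : ℕ) : ZMod r) = m := by
    refine Nat.dvd_antisymm (orderOf_dvd_of_pow_eq_one ?_) ?_
    · have h1 := (h.dvd_iff m).2 dvd_rfl
      have h2 : (((p ^ f) ^ m - 1 : ℕ) : ZMod r) = 0 := (ZMod.natCast_eq_zero_iff _ _).2 h1
      rw [Nat.cast_sub (Nat.one_le_pow _ _ hq), Nat.cast_pow, Nat.cast_one] at h2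
      exact sub_eq_zero.1 h2
    · apply (h.dvd_iff _).1
      rw [← ZMod.natCast_eq_zero_iff, Nat.cast_sub (Nat.one_le_pow _ _ hq), Nat.cast_pow, Nat.cast_one,
        pow_orderOf_eq_one, sub_self]
  refine ⟨h.prime, by omega, ?_, Or.inl ⟨he, by rw [hF]; exact hor⟩, he, ?_, ?_⟩
  · refine cast_ne_zero h.prime ?_
    rw [Nat.card_eq_fintype_card, hF]
    exact h.not_dvd
  · rw [hF]
    exact (h.dvd_iff m).2 dvd_rfl
  · rw [hF]
    intro h1
    have h2 := Nat.le_of_dvd (by norm_num) ((h.dvd_iff 2).1 h1)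
    omega

theorem rr_seven (hF : Fintype.card F = 2) : Rr F 6 7 := by
  have hp3 : Fact (Nat.Prime 3) := ⟨Nat.prime_three⟩
  refine ⟨by norm_num, by norm_num, ?_, Or.inr ⟨rfl, ?_⟩, by decide, ?_, ?_⟩
  · refine cast_ne_zero (by norm_num) ?_
    rw [Nat.card_eq_fintype_card, hF]
    norm_num
  · rw [hF]
    exact orderOf_eq_prime (by decide) (by decide)
  · rw [hF]
    norm_num
  · rw [hF]
    norm_num

/-- the prime `r` -/
theorem exists_rr {p f : ℕ} (hp : p.Prime) (hf : 1 ≤ f) (hF : Fintype.card F = p ^ f) (hm : 4 ≤ m) (he : Even m) :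
    ∃ r, Rr F m r ∧ ∀ (R : Type) [Group R] [Finite R] (S : Subgroup R) [S.Normal] [IsSimpleGroup S],
      ¬ IsMulCommutative S → Subgroup.centralizer (S : Set R) = ⊥ → ∀ g, Four p f m g → IsNamed g S → Cyc r R := by
  by_cases h6 : p = 2 ∧ f * m = 6
  · obtain ⟨rfl, h6⟩ := h6
    have h7 : f * 4 ≤ f * m := Nat.mul_le_mul_left f hm
    obtain rfl : f = 1 := by omega
    obtain rfl : m = 6 := by omega
    refine ⟨7, rr_seven (by rw [hF]; norm_num), ?_⟩
    intro R _ _ S _ _ hna hC g hg hS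
    exact cyc_six S hna hC hg hS
  · obtain ⟨r, hr, hlt⟩ := exists_big (p := p) (f := f) (n := m) hp hf (by omega) h6
    refine ⟨r, rr_of_prim hp hf hF hm he hr, ?_⟩
    intro R _ _ S _ _ hna hC g hg hS
    obtain ⟨k, hk⟩ := he
    exact cyc_four S hna hC hg hS hp hf hr hlt (by omega) (by omega)

/-- **Every proper subgroup of `PΩ^+_{2m}(q)`, `m ≥ 5`, has two missing classes.** -/
theorem two_plus_five (tab : OrderTable.{0}) (hK : ∀ (X : Type) [Group X] [Finite X] [IsSimpleGroup X],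
    Cfsg.IsKnownSimple' X) (hm : 5 ≤ m) {R : Subgroup (POmega F (quadFormPlus m F))} (hR : R ≠ ⊤) :
    Two (POmega F (quadFormPlus m F)) R := by
  have hfin := finite_POmega (F := F) (quadFormPlus m F)
  have nsc : NSC (POmega F (quadFormPlus m F)) := nsc_plus (by omega) (by omega)
  obtain ⟨p, f, hp, hf, hF, -⟩ := exists_pf F
  rcases Cfsg.Agent.H884.El.geo_plus_miss (F := F) (m := m) (by omega) (by omega) R with h | h | ⟨he, h⟩
  · exact Two.of_pgap nsc h
  · rcases Cfsg.Agent.H997.PF.oplus_res tab hK hm hR h with h | ⟨he, g, hg, S, hSn, hSs, hna, hC, hgS, -⟩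
    · exact Two.of_pgap nsc h
    · obtain ⟨r, hr, hcyc⟩ := exists_rr (F := F) (m := m) hp hf hF (by omega) (Nat.even_iff.2 he)
      refine two_of_spec hm hr (Or.inr (hcyc R S hna hC g ?_ hgS))
      rw [hF] at hg
      rcases hg with hg | hg
      · exact Or.inr (Or.inr (Or.inl hg))
      · exact Or.inr (Or.inr (Or.inr hg))
  · obtain ⟨r, hr, -⟩ := exists_rr (F := F) (m := m) hp hf hF (by omega) he
    exact two_of_spec hm hr (Or.inl h)

end Cfsg.Agent.H964.Opm
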