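import Cfsg.Agent.H278.ElFamA
import Cfsg.Agent.H278.ElCrossRows
import Cfsg.Agent.H938.Sax.PEight
import Cfsg.Agent.H833.PlusNe
import Cfsg.Agent.H964.Opm.RowFive
import Cfsg.Agent.H964.Opm.Eight

/-!
# S3500: the row `PΩ^+_8(q)`, `q ≥ 4`: two missing classes of elements of order `N0 q`

After `H938.Sax.PEight` (helper938): the elements of order `N0 q` are missing from the special subgroups.
-/

set_option autoImplicit false
set_option linter.unusedSectionVars false
set_option linter.style.haveILetI false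

namespace Cfsg.Agent.H964.Opm

open Module QuadraticMap Cfsg Cfsg.Geo Cfsg.Agent.LieClassical.OrthCore Cfsg.Agent.H955 Cfsg.Agent.H954.TSing
  Cfsg.Agent.H884.El Cfsg.Agent.LieClassical.OmegaReindex Cfsg.Agent.OrdDiv Cfsg.Agent.H436 Cfsg.Agent.H915.GN
  Cfsg.Agent.H264.GN Cfsg.Agent.ClassicalGeometry.SympBasic Cfsg.Agent.H931
open Cfsg.Agent.H264.FKS hiding lin
open Cfsg.Agent.H876 (spToGL)
open Cfsg.Agent.H951 (fx cm Inv Frm Isom Nd)
open Cfsg.Agent.H938.Sax.Ord (Lcm)
open Cfsg.Agent.H938.Sax hiding cast_ne_zero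
open Cfsg.Agent.H278.El.SporNum (IsCl exc)
open Cfsg.Agent.H278.El.AltNum (dimOf surv)
open scoped MatrixGroups Matrix

universe u

section rows

variable {p f : ℕ} {T : Type u} [Group T] [Finite T]

/-- elements of order `N0 q` are missing from the subgroups with socle `PSp_6(q)`, `Ω_7(q)` (helper938) -/
theorem no_N0_of_socle {R : Subgroup T} (hp : p.Prime) (hf : 1 ≤ f) (hq : 4 ≤ p ^ f)
    (hT : IsNamed (.oplus 4 (p ^ f)) T) (S : Subgroup R) [S.Normal]
    (hC : Subgroup.centralizer (S : Set R) = ⊥)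
    (hS : IsNamed (.psp 3 (p ^ f)) S ∨ IsNamed (.oodd 3 (p ^ f)) S)
    (hcard : p ^ f % 4 = 1 → Nat.card R ≠ Nat.card (MulAut S)) : ∀ m ∈ R, orderOf m ≠ N0 (p ^ f) := by
  have : Fact p.Prime := ⟨hp⟩
  obtain ⟨r, hr'⟩ := exists_pp (q := p) (e := f * 4) hp.two_le (by omega) (fun h => by omega)
  have hr := hr'.of_pow hf
  have hlt := hr'.lt (by omega)
  -- the automorphism group of the socle
  have hmul : Nat.card (MulAut S) = (Nat.gcd 2 (p ^ f - 1) * f) * Nat.card S := by
    rcases hS with hS | hS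
    · obtain ⟨F, _, _, hF, ⟨e⟩⟩ := hS.real
      have h3 := Cfsg.Agent.S0814.result (F := F) p f hf hF 3 (by omega) (fun h => by omega)
      rw [← Nat.card_congr e.toEquiv, ← Nat.card_congr (MulAut.congr e).toEquiv, if_neg (by omega), one_mul] at h3
      exact h3
    · obtain ⟨F, _, _, hF, ⟨e⟩⟩ := hS.real
      have hodd : Odd p := by
        have h5 := hS.cond.2.1
        rwa [Nat.odd_pow_iff (by omega)] at h5
      have h3 := Cfsg.Agent.S0816.result (F := F) p f hf hF hodd 3 le_rfl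
      rw [← Nat.card_congr e.toEquiv, ← Nat.card_congr (MulAut.congr e).toEquiv] at h3
      rw [h3, Nat.gcd_eq_left ((hodd.pow (n := f)).tsub_odd odd_one).two_dvd]
  have hidx := H938.Sax.index_dvd S hC hmul
  have hc2 : Nat.gcd 2 (p ^ f - 1) ≤ 2 := Nat.gcd_le_left _ (by norm_num)
  have hc0 : 0 < Nat.gcd 2 (p ^ f - 1) := Nat.gcd_pos_of_pos_left _ (by norm_num)
  have hle : S.index ≤ 2 * f := (Nat.le_of_dvd (Nat.mul_pos hc0 (by omega)) hidx).trans (Nat.mul_le_mul_right f hc2)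
  have hpos : 0 < S.index := Nat.pos_of_ne_zero fun h => by
    rw [h, zero_dvd_iff] at hidx
    rcases Nat.mul_eq_zero.1 hidx with h | h <;> omega
  intro m hm ho
  have h1 : orderOf (⟨m, hm⟩ : R) = N0 (p ^ f) := by rw [← ho, ← Subgroup.orderOf_coe]
  have h2 : (⟨m, hm⟩ : R) ^ S.index ∈ S := Subgroup.pow_index_mem S _
  have hdv : orderOf (⟨_, h2⟩ : S) ∣ N0 (p ^ f) := by
    rw [Subgroup.orderOf_mk, ← h1]
    exact orderOf_pow_dvd _
  have hrd : r ∣ orderOf (⟨_, h2⟩ : S) := by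
    rw [Subgroup.orderOf_mk]
    have h3 : N0 (p ^ f) ∣ S.index * orderOf ((⟨m, hm⟩ : R) ^ S.index) := by
      rw [← h1]
      exact orderOf_dvd_of_pow_eq_one (by rw [pow_mul, pow_orderOf_eq_one])
    rcases hr.prime.dvd_mul.1 ((pp_dvd_N0 (by omega) hr).trans h3) with h4 | h4
    · have := Nat.le_of_dvd hpos h4
      omega
    · exact h4
  have hL : Lcm (p ^ f) (⟨_, h2⟩ : S) := by
    rcases hS with hS | hS
    · obtain ⟨F, _, _, hF, ⟨e⟩⟩ := hS.real
      refine lcm_of_injective e.toMonoidHom e.injective ?_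
      have h3 : orderOf (e.toMonoidHom (⟨_, h2⟩ : S)) = orderOf (⟨_, h2⟩ : S) := orderOf_injective _ e.injective _
      rw [← hF]
      rw [← hF] at hdv
      refine lcm_psp (r := r) (by rw [Nat.card_eq_fintype_card, hF]; exact hr) (by rw [h3]; exact hrd) ?_
      rw [h3]
      exact H938.Sax.cast_ne_zero hdv
    · obtain ⟨F, _, _, hF, ⟨e⟩⟩ := hS.real
      refine lcm_of_injective e.toMonoidHom e.injective ?_
      have h3 : orderOf (e.toMonoidHom (⟨_, h2⟩ : S)) = orderOf (⟨_, h2⟩ : S) := orderOf_injective _ e.injective _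
      have hodd : Odd (Fintype.card F) := hF ▸ hS.cond.2.1
      have h2F := H390.two_ne_zero_of_odd hodd
      rw [← hF]
      rw [← hF] at hdv
      have key : ∀ y : POmega F (⇑(quadOdd 3 F)), r ∣ orderOf y → ((orderOf y : ℕ) : F) ≠ 0 →
          Lcm (Fintype.card F) y := fun y h6 h7 =>
        lcm_seven h2F (nondeg_iff.2 (quadOdd_nondegenerate h2F)) (data_odd le_rfl h2F)
          (by rw [Nat.card_eq_fintype_card, hF]; exact hr) h6 h7 (card_odd 3)
      rw [coe_quadOdd] at key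
      refine key _ (by rw [h3]; exact hrd) ?_
      rw [h3]
      exact H938.Sax.cast_ne_zero hdv
  have hL' : Lcm (p ^ f) ((⟨m, hm⟩ : R) ^ S.index) := lcm_map S.subtype hL
  obtain ⟨h5, h6⟩ := residual_num hp hf hq h1 hidx hL'
  apply hcard h5
  rw [hmul, ← h6, mul_comm, S.card_mul_index]


end rows

section point

variable {F : Type} [Field F] [Fintype F]

/-- stabilizers of nonsingular points (helper938) -/
theorem no_N0_of_point (hq : 4 ≤ Fintype.card F) (M : Subgroup (POmega F (quadFormPlus 4 F))) :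
    (∃ v, quadFormPlus 4 F v ≠ 0 ∧ pre (quadFormPlus 4 F) M ≤ subspaceStabilizer (Submodule.span F {v})) →
      ∀ m ∈ M, orderOf m ≠ N0 (Fintype.card F) := by
  have h : ∀ M : Subgroup (POmega F (⇑(quadPlus 4 F))),
      (∃ v, (quadPlus 4 F) v ≠ 0 ∧ pre (⇑(quadPlus 4 F)) M ≤ subspaceStabilizer (Submodule.span F {v})) →
      ∀ m ∈ M, orderOf m ≠ N0 (Fintype.card F) := by
    rintro M ⟨v, hv, hMv⟩ x hx ho
    obtain ⟨r, hr⟩ := exists_pp (q := Nat.card F) (e := 4) Finite.one_lt_card (by omega) (by omega)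
    refine not_lcm hq ho (lcm_point (nondeg_iff.2 quadPlus_nondegenerate) (data_plus le_rfl) hr hv hMv hx ?_ ?_
      (card_plus 4))
    · rw [ho]
      exact pp_dvd_N0 Fintype.one_lt_card (by rwa [Nat.card_eq_fintype_card] at hr)
    · rw [ho]
      exact H938.Sax.cast_ne_zero dvd_rfl
  rw [coe_quadPlus] at h
  exact h M

/-- a missing prime or the missing order `N0 q` -/
theorem pgap_or_N0 (tab : OrderTable.{0}) (hK : ∀ (X : Type) [Group X] [Finite X] [IsSimpleGroup X],
    Cfsg.IsKnownSimple' X) (hq : 4 ≤ Fintype.card F) {R : Subgroup (POmega F (quadFormPlus 4 F))} (hR : R ≠ ⊤) :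
    PGap (POmega F (quadFormPlus 4 F)) R ∨ ∀ m ∈ R, orderOf m ≠ N0 (Fintype.card F) := by
  obtain ⟨p, f, hp, hf, hF, -⟩ := exists_pf F
  have hpF : p ∣ Fintype.card F := by
    rw [hF]
    exact dvd_pow_self p (by omega)
  have hT : IsNamed (.oplus 4 (Fintype.card F)) (POmega F (quadFormPlus 4 F)) := named_oplus (F := F) le_rfl
  have hfin := finite_POmega (F := F) (quadFormPlus 4 F)
  have hι : Fintype.card (Fin 4 ⊕ Fin 4) = 2 * 4 := by
    rw [Fintype.card_sum, Fintype.card_fin]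
  rcases geo_plus_miss (F := F) (m := 4) le_rfl (by rw [Nat.card_eq_fintype_card]; omega) R with h | ⟨P, hP, -⟩ | ⟨-, h⟩
  · exact Or.inl h
  · obtain ⟨S, hSn, hSs, hna, hC, ⟨e⟩⟩ := exists_res_plus le_rfl (M := R) hP
    obtain ⟨g, hg⟩ := Cfsg.Agent.H278.El.Asm.named_of_simple tab hK hna
    refine Cfsg.Agent.H278.El.Asm.res_kill (p := p) hT trivial ?_ ?_ S hC hg e hι (fun h => Or.inl h) ?_ ?_
    · simp only [surv, List.mem_cons, Grp.oplus.injEq, reduceCtorEq, or_false, false_or, List.not_mem_nil]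
      omega
    · intro g' hg'
      simp only [exc, List.mem_cons, Prod.mk.injEq, Grp.oplus.injEq, reduceCtorEq, and_false, or_false, false_or,
        List.not_mem_nil] at hg'
      omega
    · intro hch
      by_cases hfull : Full (POmega F (quadFormPlus 4 F)) R
      · have hT' : IsNamed (.oplus 4 (p ^ f)) (POmega F (quadFormPlus 4 F)) := by rw [← hF]; exact hT
        obtain ⟨-, h2⟩ := full_oplus' hT' hp hf le_rfl (fun h => by
            obtain ⟨rfl, h⟩ := h
            have hf1 : f = 1 := by omega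
            subst hf1
            rw [hF] at hq
            norm_num at hq) (fun h => by omega) hR hfull S hna hC hg hch
        have h3 : IsNamed (.psp 3 (p ^ f)) S ∨ IsNamed (.oodd 3 (p ^ f)) S := by
          rcases h2 with rfl | rfl
          · exact Or.inl hg
          · exact Or.inr hg
        right
        rw [hF]
        exact no_N0_of_socle hp hf (by rw [← hF]; exact hq) hT' S hC h3 fun h4 =>
          Cfsg.Agent.H833.PlusTwo.card_ne' hT' h4 S hC h3
      · exact Or.inl (pgap_of_not_full hfull)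
    · intro s hs hsp hch
      rcases Cfsg.Agent.H278.El.Asm.cross_gen hp hT trivial ⟨f, hF⟩ hι hpF S hSn hSs hna hC hP ⟨e⟩
        hs hsp hg hch with h | h
      · exact Or.inl h
      · simp only [Cfsg.Agent.H884.Cx.excP, List.mem_cons, Prod.mk.injEq, Grp.oplus.injEq, reduceCtorEq, and_false,
          or_false, false_or, List.not_mem_nil] at h
        omega
  · exact Or.inr (no_N0_of_point hq R h)

theorem exists_AB {p f : ℕ} (hp : p.Prime) (hf : 1 ≤ f) (hq : 4 ≤ p ^ f) :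
    ∃ d A B, AB p f d A B ∧ A * B = N0 (p ^ f) := by
  have e2 : p ^ (2 * f) = (p ^ f) ^ 2 := by rw [← pow_mul, mul_comm]
  have e4 : (p ^ f) ^ 4 = (p ^ f) ^ 2 * (p ^ f) ^ 2 := by ring
  have h1 : 16 ≤ (p ^ f) ^ 2 := by
    rw [pow_two]
    nlinarith
  obtain ⟨c, hc⟩ : ∃ c, (p ^ f) ^ 2 = c + 1 := ⟨(p ^ f) ^ 2 - 1, by omega⟩
  rcases hp.eq_two_or_odd' with h2 | ho
  · have he : ¬ Odd (p ^ f) := by
      rw [Nat.not_odd_iff_even, h2]
      exact even_two.pow_of_ne_zero (by omega)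
    refine ⟨1, c + 2, c, ⟨hp.two_le, hf, hq, by rw [e2, hc]; ring, by rw [e2, hc]; ring, Or.inl ⟨rfl, by rw [h2]; decide⟩⟩, ?_⟩
    rw [N0, if_neg he, e4, hc]
    have : (c + 1) * (c + 1) = (c + 2) * c + 1 := by ring
    rw [this, Nat.add_sub_cancel]
  · have ho' : Odd (p ^ f) := ho.pow
    obtain ⟨k, hk⟩ := ho'
    have hc2 : c = 2 * (2 * (k * (k + 1))) := by
      have : (2 * k + 1) ^ 2 = 2 * (2 * (k * (k + 1))) + 1 := by ring
      rw [hk, this] at hc
      omega
    refine ⟨2, 2 * (k * (k + 1)) + 1, 2 * (k * (k + 1)), ⟨hp.two_le, hf, hq, by rw [e2, hc, hc2]; ring,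
      by rw [e2, hc, hc2], Or.inr ⟨rfl, ho⟩⟩, ?_⟩
    rw [N0, if_pos ho.pow, e4, hc, hc2]
    have : (2 * (2 * (k * (k + 1))) + 1) * (2 * (2 * (k * (k + 1))) + 1) =
        4 * ((2 * (k * (k + 1)) + 1) * (2 * (k * (k + 1)))) + 1 := by ring
    rw [this, Nat.add_sub_cancel, Nat.mul_div_cancel_left _ (by norm_num)]

/-- **Every proper subgroup of `PΩ^+_8(q)`, `q ≥ 4`, has two missing classes.** -/
theorem two_plus_four (tab : OrderTable.{0}) (hK : ∀ (X : Type) [Group X] [Finite X] [IsSimpleGroup X],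
    Cfsg.IsKnownSimple' X) (hq : 4 ≤ Fintype.card F) {R : Subgroup (POmega F (quadFormPlus 4 F))} (hR : R ≠ ⊤) :
    Cfsg.Agent.H439.Der.Two (POmega F (quadFormPlus 4 F)) R := by
  have hfin := finite_POmega (F := F) (quadFormPlus 4 F)
  rcases pgap_or_N0 tab hK hq hR with h | h
  · exact Cfsg.Agent.H439.Der.Two.of_pgap (nsc_plus le_rfl (by omega)) h
  obtain ⟨p, f, hp, hf, hF, -⟩ := exists_pf F
  obtain ⟨d, A, B, hAB, hN⟩ := exists_AB hp hf (by rw [← hF]; exact hq)
  obtain ⟨x, y, hx, hy, hxy⟩ := exists_two_AB (F := F) hp hF hAB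
  rw [hN, ← hF] at hx hy
  have hG : Cfsg.Agent.LieClassical.OrthTrans.Good (Cfsg.Agent.LieClassical.OrthForms.plusForm 4 F) :=
    Cfsg.Agent.ClassicalGeometry.OrthSemiForms.good_plus (by norm_num)
  have key : ∀ R : Subgroup (POmega F ⇑(Cfsg.Agent.LieClassical.OrthForms.plusForm 4 F)),
      (∀ m ∈ R, orderOf m ≠ N0 (Fintype.card F)) →
        Cfsg.Agent.H439.Der.Two (POmega F ⇑(Cfsg.Agent.LieClassical.OrthForms.plusForm 4 F)) R := by
    intro R h
    refine Cfsg.Agent.H439.Der.Two.congr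
      (Cfsg.Agent.ClassicalGeometry.OrthSemiForms.pomegaEquiv hG).symm ⟨x, y, fun φ hφ => ?_, fun φ hφ => ?_, hxy⟩
    · refine h _ hφ ?_
      rw [MulEquiv.coe_toMonoidHom, MulEquiv.orderOf_eq, MulEquiv.orderOf_eq, hx]
    · refine h _ hφ ?_
      rw [MulEquiv.coe_toMonoidHom, MulEquiv.orderOf_eq, MulEquiv.orderOf_eq, hy]
  rw [Cfsg.Agent.LieClassical.OrthForms.coe_plusForm] at key
  exact key R h

end point

end Cfsg.Agent.H964.Opm
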