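import Cfsg.Agent.H503.El.O83Main
import Cfsg.Agent.H964.Opm.RowFour
import Cfsg.Agent.S0817

/-!
# S3500: the row `PΩ^+_{2m}(q)`, `m ≥ 4`, `(m, q) ≠ (4, 2)`
-/

set_option autoImplicit false
set_option maxRecDepth 10000

namespace Cfsg.Agent.H964.Opm

open Cfsg Cfsg.Agent.H439.Der Cfsg.Agent.OrdDiv Cfsg.Agent.H436 Cfsg.Agent.H264.FKS Cfsg.Agent.H915.GN

variable {F : Type} [Field F] [Fintype F]

theorem rr_five (hF : Fintype.card F = 3) : Rr F 4 5 := by
  refine ⟨by norm_num, by norm_num, ?_, Or.inl ⟨by decide, ?_⟩, by decide, ?_, ?_⟩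
  · refine cast_ne_zero (by norm_num) ?_
    rw [Nat.card_eq_fintype_card, hF]
    norm_num
  · rw [hF]
    exact orderOf_eq_prime_pow (p := 2) (n := 1) (by decide) (by decide)
  · rw [hF]
    norm_num
  · rw [hF]
    norm_num

theorem card_o83 (hF : Fintype.card F = 3) : Nat.card (POmega F (quadFormPlus 4 F)) = 4952179814400 := by
  obtain ⟨e⟩ := Cfsg.Agent.H503.El.equiv_o83 F hF
  rw [← Nat.card_congr e.toEquiv]
  exact Cfsg.Agent.H503.El.O83.card_t8

theorem card_out_o83 (hF : Fintype.card F = 3) : Nat.card (Out (POmega F (quadFormPlus 4 F))) = 24 := by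
  have hfin := finite_POmega (F := F) (quadFormPlus 4 F)
  have hs : IsSimpleGroup (POmega F (quadFormPlus 4 F)) := S0296.result 4 le_rfl
  refine Cfsg.Agent.H934.OutB.card_out_of_aut ?_ ?_
  · intro hc
    have h1 : ∀ a b : POmega F (quadFormPlus 4 F), a * b = b * a := hc.is_comm.comm
    have h2 : Fact (Nat.Prime 2) := ⟨Nat.prime_two⟩
    obtain ⟨x, hx⟩ := exists_prime_orderOf_dvd_card' (G := POmega F (quadFormPlus 4 F)) 2 (by
      rw [card_o83 hF]
      norm_num)
    have hn : (Subgroup.zpowers x).Normal := ⟨fun n hn g => by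
      rw [h1 g n, mul_inv_cancel_right]
      exact hn⟩
    rcases hn.eq_bot_or_eq_top with h3 | h3
    · rw [Subgroup.zpowers_eq_bot] at h3
      rw [h3, orderOf_one] at hx
      norm_num at hx
    · have h4 := Nat.card_zpowers x
      rw [h3, Subgroup.card_top, card_o83 hF, hx] at h4
      norm_num at h4
  · have h3 : Fact (Nat.Prime 3) := ⟨Nat.prime_three⟩
    have h1 := S0817.result (F := F) 3 1 le_rfl (by rw [hF, pow_one]) 4 le_rfl
    rw [h1]
    norm_num

/-- **The row `PΩ^+_8(3)`** -/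
theorem row_o83 (tab : OrderTable.{0}) (hK : ∀ (X : Type) [Group X] [Finite X] [IsSimpleGroup X],
    Cfsg.IsKnownSimple' X) (hF : Fintype.card F = 3) {R : Subgroup (POmega F (quadFormPlus 4 F))} (hR : R ≠ ⊤) :
    Two (POmega F (quadFormPlus 4 F)) R ∨
      (TwoT (POmega F (quadFormPlus 4 F)) R ∧ NoSyl (POmega F (quadFormPlus 4 F)) R) := by
  have hfin := finite_POmega (F := F) (quadFormPlus 4 F)
  rcases Cfsg.Agent.H503.El.pgap_o83 tab hK F hF R hR with h | h
  · exact Or.inl (Two.of_pgap (nsc_plus le_rfl (by omega)) h)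
  right
  constructor
  · refine twoT_of_spec le_rfl (rr_five hF) (Or.inr ?_)
    exact cyc_of_card (by norm_num) (by rw [h]; norm_num)
  · intro s hs hd h1
    rw [card_out_o83 hF] at hd
    have hs23 : s = 2 ∨ s = 3 := by
      have h2 : s ∣ 2 ^ 3 * 3 := by simpa using hd
      rcases hs.dvd_mul.1 h2 with h3 | h3
      · left
        exact (Nat.prime_dvd_prime_iff_eq hs Nat.prime_two).1 (hs.dvd_of_dvd_pow h3)
      · right
        exact (Nat.prime_dvd_prime_iff_eq hs Nat.prime_three).1 h3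
    rw [card_o83 hF, h] at h1
    rcases hs23 with rfl | rfl
    · have h2 : 10 ≤ (4952179814400 : ℕ).factorization 2 :=
        (Nat.prime_two.pow_dvd_iff_le_factorization (by norm_num)).1 (by norm_num)
      have h3 := (pow_dvd_pow 2 h2).trans h1
      norm_num at h3
    · have h2 : 10 ≤ (4952179814400 : ℕ).factorization 3 :=
        (Nat.prime_three.pow_dvd_iff_le_factorization (by norm_num)).1 (by norm_num)
      have h3 := (pow_dvd_pow 3 h2).trans h1
      norm_num at h3

/-- **The row `PΩ^+_{2m}(q)`.** -/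
theorem row_oplus (tab : OrderTable.{0}) (hK : ∀ (X : Type) [Group X] [Finite X] [IsSimpleGroup X],
    Cfsg.IsKnownSimple' X) {m : ℕ} (hm : 4 ≤ m) (hex : ¬ (m = 4 ∧ Fintype.card F = 2)) :
    Row (POmega F (quadFormPlus m F)) := by
  intro M hM
  rcases Nat.lt_or_ge m 5 with h | h
  · obtain rfl : m = 4 := by omega
    by_cases h3 : Fintype.card F = 3
    · exact row_o83 tab hK h3 hM.1
    · left
      have h2 : 1 < Fintype.card F := Fintype.one_lt_card
      exact two_plus_four tab hK (by omega) hM.1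
  · exact Or.inl (two_plus_five tab hK h hM.1)

end Cfsg.Agent.H964.Opm
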