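import Cfsg.Agent.H439.Der.Three
import Cfsg.Agent.H964.Opm.Eight

/-!
# S3502: three classes of elements of order `A * B` in `PΩ⁺_8(q)`, `q ≥ 4`, `q ≠ 5` (helper964)
-/

set_option autoImplicit false
set_option linter.unusedSectionVars false

namespace Cfsg.Agent.H964.Opm

open Cfsg.Agent.LieClassical.OrthCore Cfsg.Agent.LieClassical.OrthTrans Cfsg.Agent.LieClassical.OrthFinite
  Cfsg.Agent.LieClassical.OrthForms
  Cfsg.Agent.ClassicalGeometry.OrthAut1 Cfsg.Agent.ClassicalGeometry.OrthSemi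
  Cfsg.Agent.ClassicalGeometry.OrthSemiForms Cfsg.Agent.H439.Der Cfsg.Agent.H372
open Module QuadraticMap Matrix Polynomial

namespace AB

variable {p f d A B : ℕ}

/-- the congruences -/
theorem main' (h : AB p f d A B) {i j t : ℕ} (hiB : i ≡ 1 [MOD B]) (hjB : j ≡ 1 [MOD B])
    (hcase : (j ≡ i * p ^ t [MOD A * B]) ∨ (A * B ∣ j + i * p ^ t)) : j ≡ i [MOD A] ∨ A ∣ i + j := by
  rcases hcase with h1 | h1
  · have hB' : j ≡ i * p ^ t [MOD B] := h1.of_dvd (dvd_mul_left B A)
    have hA' : j ≡ i * p ^ t [MOD A] := h1.of_dvd (dvd_mul_right A B)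
    have h2 : p ^ t ≡ 1 [MOD B] := by
      have h3 : 1 ≡ 1 * p ^ t [MOD B] := hjB.symm.trans (hB'.trans (hiB.mul_right _))
      rw [one_mul] at h3
      exact h3.symm
    have h4 : ((j : ℕ) : ZMod A) = i * (p : ZMod A) ^ t := by
      have h6 := (ZMod.natCast_eq_natCast_iff _ _ _).2 hA'
      push_cast at h6
      exact h6
    rcases h.pow_A (h.dvd_of_mod h2) with h3 | h3
    · left
      rw [h3, mul_one] at h4
      exact (ZMod.natCast_eq_natCast_iff _ _ _).1 h4
    · right
      rw [h3, mul_neg, mul_one] at h4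
      rw [← ZMod.natCast_eq_zero_iff]
      push_cast
      rw [h4]
      ring
  · exfalso
    apply h.not_neg t
    have h2 : B ∣ j + i * p ^ t := (dvd_mul_left B A).trans h1
    have h3 : j + i * p ^ t ≡ 1 + 1 * p ^ t [MOD B] := hjB.add (hiB.mul_right _)
    rw [one_mul] at h3
    exact (Nat.modEq_zero_iff_dvd).1 (h3.symm.trans ((Nat.modEq_zero_iff_dvd).2 h2))

theorem not_sq_add {n a : ℕ} (ha : a = 3 ∨ a = 7) : ¬ a ∣ n * n + 1 := by
  intro h
  have h1 : (n * n + 1) % a = 0 := Nat.mod_eq_zero_of_dvd h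
  have h2 : (n * n + 1) % a = ((n % a) * (n % a) + 1) % a := by
    rw [Nat.add_mod, Nat.mul_mod]
    simp [Nat.add_mod]
  rw [h2] at h1
  rcases ha with rfl | rfl
  · have h3 : n % 3 < 3 := Nat.mod_lt _ (by norm_num)
    interval_cases n % 3 <;> omega
  · have h3 : n % 7 < 7 := Nat.mod_lt _ (by norm_num)
    interval_cases n % 7 <;> omega

theorem cop_prime (h : AB p f d A B) {a : ℕ} (ha : a = 2 ∨ a = 3 ∨ a = 7) : Nat.Coprime A a := by
  have h2 : p ^ (2 * f) = p ^ f * p ^ f := by rw [← pow_add]; congr 1; ring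
  have key : ∀ a : ℕ, a = 3 ∨ a = 7 → Nat.Coprime A a := by
    intro a ha
    have hap : a.Prime := by rcases ha with rfl | rfl <;> norm_num
    rw [Nat.coprime_comm, hap.coprime_iff_not_dvd]
    intro h1
    have h3 : a ∣ p ^ f * p ^ f + 1 := by
      rw [← h2, h.hA]
      exact Dvd.dvd.mul_left h1 d
    exact not_sq_add ha h3
  rcases ha with rfl | ha
  · exact Nat.coprime_two_right.2 h.odd
  · exact key a ha

end AB

section main

variable {F : Type} [Field F] [Fintype F]

/-- **An element of order `A * B` and its conjugates under semisimilitudes.** -/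
theorem exists_core {p f d A B : ℕ} (hp : p.Prime) (hF : Fintype.card F = p ^ f) (h : AB p f d A B) :
    ∃ x : P (plusForm 4 F), orderOf x = A * B ∧ ∀ (i j : ℕ) (M : Gam (plusForm 4 F)), i ≡ 1 [MOD B] →
      j ≡ 1 [MOD B] → Psi (plusForm 4 F) M (x ^ i) = x ^ j → (j ≡ i [MOD A] ∨ A ∣ i + j) := by
  have : Fact p.Prime := ⟨hp⟩
  have hpc : CharP F p := by
    obtain ⟨r, hr⟩ := CharP.exists F
    obtain ⟨n, hrp, hn⟩ := FiniteField.card F r
    have h1 : p ∣ r ^ (n : ℕ) := by
      rw [← hn, hF]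
      exact dvd_pow_self p (by have := h.f1; omega)
    rw [(Nat.prime_dvd_prime_iff_eq hp hrp).1 (hp.dvd_of_dvd_pow h1)]
    exact hr
  have : NeZero 4 := ⟨by norm_num⟩
  have hG : Good (plusForm 4 F) := good_plus (by norm_num)
  have hcF : Nat.card F = p ^ f := by rw [Nat.card_eq_fintype_card, hF]
  have hcL : Nat.card (FiniteField.Extension F p 4) = p ^ (4 * f) := by
    rw [FiniteField.natCard_extension, hcF, ← pow_mul, mul_comm]
  have hL : finrank F (FiniteField.Extension F p 4) = 4 := FiniteField.finrank_extension F p 4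
  let b : Basis (Fin 4) F (FiniteField.Extension F p 4) := finBasisOfFinrankEq F _ hL
  have hA13 := h.thirteen
  have hB2 := h.B_pos
  have hABpos : 0 < A * B := Nat.mul_pos (by omega) (by omega)
  have hd2 : d = 1 ∨ d = 2 := by
    rcases h.hd with ⟨h1, -⟩ | ⟨h1, -⟩
    · exact Or.inl h1
    · exact Or.inr h1
  have hdpos : 0 < d := by rcases hd2 with h1 | h1 <;> omega
  -- the order of the multiplicative group
  have hq4 : p ^ (4 * f) - 1 = d * (d * (A * B)) := by
    have e1 : p ^ (4 * f) = p ^ (2 * f) * p ^ (2 * f) := by rw [← pow_add]; congr 1; ring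
    have e2 := h.hA
    have e3 := h.hB
    have e4 : p ^ (2 * f) * p ^ (2 * f) = d * (d * (A * B)) + 1 := by
      have e5 : d * (d * (A * B)) = (d * A) * (d * B) := by ring
      rw [e5, ← e2]
      have e6 : d * B = p ^ (2 * f) - 1 := by omega
      rw [e6]
      obtain ⟨c, hc⟩ : ∃ c, p ^ (2 * f) = c + 1 := ⟨p ^ (2 * f) - 1, by have := h.sq; omega⟩
      rw [hc, Nat.add_sub_cancel]
      ring
    rw [e1, e4, Nat.add_sub_cancel]
  obtain ⟨η, hη⟩ := IsCyclic.exists_generator (α := (FiniteField.Extension F p 4)ˣ)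
  have hoη : orderOf η = d * (d * (A * B)) := by
    rw [orderOf_eq_card_of_forall_mem_zpowers hη, Nat.card_units, hcL, hq4]
  -- `ζ = η ^ 2`
  have hoζ : orderOf (η * η) = d * (A * B) := by
    rw [← pow_two]
    rcases h.hd with ⟨h1, he⟩ | ⟨h1, -⟩
    · subst h1
      rw [Nat.Coprime.orderOf_pow, hoη, one_mul]
      rw [hoη, ← hq4]
      have h2 : Even (p ^ (4 * f)) := he.pow_of_ne_zero (by have := h.f1; omega)
      have h3 : Odd (p ^ (4 * f) - 1) := Nat.Even.sub_odd (Nat.one_le_pow _ _ hp.pos) h2 odd_one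
      exact (Nat.coprime_two_right.2 h3)
    · subst h1
      rw [orderOf_pow_of_dvd (by norm_num) (by rw [hoη]; exact dvd_mul_right _ _), hoη,
        Nat.mul_div_cancel_left _ (by norm_num)]
  set ζ := η * η with hζ
  let X : ↥(E (plusForm 4 F)) := ⟨lv b ζ, lv_sq_mem_E (by norm_num) b η⟩
  have hXpow : ∀ n : ℕ, ((X ^ n : ↥(E (plusForm 4 F))) : _ ≃ₗ[F] _) = lv b (ζ ^ n) := by
    intro n
    rw [map_pow]
    rfl
  have hXinj : ∀ i j : ℕ, X ^ i = X ^ j → ζ ^ i = ζ ^ j := by
    intro i j hij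
    apply lv_injective b
    rw [← hXpow, ← hXpow, hij]
  have hneg : d = 2 → ζ ^ (A * B) = -1 := by
    intro h1
    subst h1
    have h3 : (ζ ^ (A * B)) ^ 2 = 1 := by
      rw [← pow_mul, ← orderOf_dvd_iff_pow_eq_one, hoζ, mul_comm]
    have h4 : ζ ^ (A * B) ≠ 1 := by
      intro h5
      have h6 := Nat.le_of_dvd hABpos (hoζ ▸ orderOf_dvd_of_pow_eq_one h5)
      omega
    have h5 : ((ζ ^ (A * B) : (FiniteField.Extension F p 4)ˣ) : FiniteField.Extension F p 4) *
        ((ζ ^ (A * B) : (FiniteField.Extension F p 4)ˣ) : FiniteField.Extension F p 4) = 1 := by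
      rw [← Units.val_mul, ← pow_two, h3, Units.val_one]
    rcases mul_self_eq_one_iff.1 h5 with h6 | h6
    · exact absurd (Units.ext h6) h4
    · exact Units.ext (by rw [h6, Units.val_neg, Units.val_one])
  -- central elements
  have hXN : X ^ (A * B) ∈ Subgroup.center ↥(E (plusForm 4 F)) := by
    rcases hd2 with h1 | h1
    · subst h1
      have h2 : ζ ^ (A * B) = 1 := by
        rw [← orderOf_dvd_iff_pow_eq_one, hoζ, one_mul]
      have h3 : X ^ (A * B) = 1 := by
        apply Subtype.ext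
        rw [hXpow, h2, map_one]
        rfl
      rw [h3]
      exact Subgroup.one_mem _
    · have h2 := hneg h1
      rw [Subgroup.mem_center_iff]
      intro Y
      apply Subtype.ext
      refine LinearEquiv.ext fun v => ?_
      show Y.1 ((X ^ (A * B)).1 v) = (X ^ (A * B)).1 (Y.1 v)
      rw [hXpow, h2, lv_neg_one, lv_neg_one, map_neg]
  have hcen : ∀ z ∈ Subgroup.center ↥(E (plusForm 4 F)), z = 1 ∨ z = X ^ (A * B) := by
    intro z hz
    rcases center_cases hG hz with h1 | h1
    · exact Or.inl h1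
    · rcases h.hd with ⟨-, he⟩ | ⟨h2, -⟩
      · left
        have hp2 : p = 2 := hp.even_iff.1 he
        subst hp2
        apply Subtype.ext
        ext v
        have h3 : z.1 v = v := by
          rw [h1]
          funext i
          exact CharTwo.neg_eq (v i)
        rw [h3]
        rfl
      · right
        subst h2
        apply Subtype.ext
        ext v
        rw [h1, hXpow, hneg rfl, lv_neg_one]
  -- the order
  have hx : orderOf (QuotientGroup.mk X : P (plusForm 4 F)) = A * B := by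
    apply Nat.dvd_antisymm
    · apply orderOf_dvd_of_pow_eq_one
      rw [← QuotientGroup.mk_pow]
      exact (QuotientGroup.eq_one_iff _).2 hXN
    · have h1 := pow_orderOf_eq_one (QuotientGroup.mk X : P (plusForm 4 F))
      rw [← QuotientGroup.mk_pow] at h1
      rcases hcen _ ((QuotientGroup.eq_one_iff _).1 h1) with h2 | h2
      · have h3 := hXinj _ 0 (by rw [h2, pow_zero])
        rw [pow_zero] at h3
        have h4 := orderOf_dvd_of_pow_eq_one h3
        rw [hoζ] at h4
        exact (dvd_mul_left _ _).trans h4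
      · have h3 := hXinj _ _ h2
        have h4 := pow_eq_pow_iff_modEq.1 h3
        rw [hoζ] at h4
        have h5 := h4.of_dvd (dvd_mul_left (A * B) d)
        exact (Nat.modEq_zero_iff_dvd).1 (h5.trans ((Nat.modEq_zero_iff_dvd).2 dvd_rfl))
  refine ⟨QuotientGroup.mk X, hx, fun i j' M hiB hjB hMx => ?_⟩
  rw [← QuotientGroup.mk_pow, ← QuotientGroup.mk_pow] at hMx
  -- lift
  obtain ⟨j, hj, hjA, hjB⟩ : ∃ j, conjE (plusForm 4 F) M (X ^ i) = X ^ j ∧ j ≡ j' [MOD A] ∧ j ≡ 1 [MOD B] := by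
    rw [Psi_mk, eq_comm, QuotientGroup.eq] at hMx
    rcases hcen _ hMx with h1 | h1
    · exact ⟨j', (inv_mul_eq_one.1 h1).symm, Nat.ModEq.refl _, hjB⟩
    · refine ⟨j' + A * B, ?_, ?_, ?_⟩
      · rw [inv_mul_eq_iff_eq_mul] at h1
        rw [h1, pow_add]
      · have h2 : A * B ≡ 0 [MOD A] := (Nat.modEq_zero_iff_dvd).2 (dvd_mul_right A B)
        exact ((Nat.ModEq.refl j').add h2).trans (by rw [add_zero])
      · have h2 : A * B ≡ 0 [MOD B] := (Nat.modEq_zero_iff_dvd).2 (dvd_mul_left B A)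
        exact (hjB.add h2).trans (by rw [add_zero])
  obtain ⟨σ, c, hσ⟩ := M.2
  obtain ⟨t, ht⟩ := lv_conj hcF b (ζ₁ := ζ ^ i) (ζ₂ := ζ ^ j) hσ (fun v => by
    rw [← hXpow, ← hXpow, ← hj, coe_conjE, conjLin_apply'])
  have hres : j ≡ i [MOD A] ∨ A ∣ i + j := by
    refine h.main' (t := t) hiB hjB ?_
    rcases ht with ht | ht
    · left
      rw [← pow_mul] at ht
      have h1 := pow_eq_pow_iff_modEq.1 ht
      rw [hoζ] at h1
      exact h1.of_dvd (dvd_mul_left (A * B) d)
    · right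
      rw [inv_pow, eq_inv_iff_mul_eq_one, ← pow_mul, ← pow_add] at ht
      have h1 := orderOf_dvd_of_pow_eq_one ht
      rw [hoζ] at h1
      exact (dvd_mul_left _ _).trans h1
  rcases hres with h1 | h1
  · exact Or.inl (hjA.symm.trans h1)
  · right
    have h2 : i + j' ≡ i + j [MOD A] := (Nat.ModEq.refl i).add hjA.symm
    exact (Nat.modEq_zero_iff_dvd).1 (h2.trans ((Nat.modEq_zero_iff_dvd).2 h1))

/-- four powers are not all conjugate -/
theorem not_four {p f d A B : ℕ} (h : AB p f d A B) {x : P (plusForm 4 F)} (hx : orderOf x = A * B)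
    (hM : ∀ (i j : ℕ) (M : Gam (plusForm 4 F)), i ≡ 1 [MOD B] →
      j ≡ 1 [MOD B] → Psi (plusForm 4 F) M (x ^ i) = x ^ j → (j ≡ i [MOD A] ∨ A ∣ i + j))
    {α : Type*} [Fintype α] (hα : 4 ≤ Fintype.card α) (e : α → ℕ) (heB : ∀ k, e k ≡ 1 [MOD B])
    (hne : ∀ k l, k ≠ l → ¬ (e l ≡ e k [MOD A]) ∧ ¬ A ∣ e k + e l) (y : P (plusForm 4 F))
    (hy : ∀ k, ∃ φ : MulAut (P (plusForm 4 F)), φ y = x ^ e k) : False := by
  choose φ hφ using hy
  have hidx := Cfsg.Agent.AutOrth.Final.index_plus_four (F := F)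
  have hfin : Finite (MulAut (P (plusForm 4 F)) ⧸ (Psi (plusForm 4 F)).range) :=
    Nat.finite_of_card_ne_zero (by
      show (Psi (plusForm 4 F)).range.index ≠ 0
      rw [hidx]
      norm_num)
  obtain ⟨k, l, hkl, hc⟩ : ∃ k l : α, k ≠ l ∧
      (QuotientGroup.mk (φ k)⁻¹ : MulAut (P (plusForm 4 F)) ⧸ (Psi (plusForm 4 F)).range) =
        QuotientGroup.mk (φ l)⁻¹ := by
    by_contra hinj
    push Not at hinj
    have h1 : Function.Injective (fun k : α =>
        (QuotientGroup.mk (φ k)⁻¹ : MulAut (P (plusForm 4 F)) ⧸ (Psi (plusForm 4 F)).range)) := by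
      intro k l hkl
      by_contra hne
      exact hinj k l hne hkl
    have h2 := Nat.card_le_card_of_injective _ h1
    have h3 : Nat.card (MulAut (P (plusForm 4 F)) ⧸ (Psi (plusForm 4 F)).range) = 3 := hidx
    rw [h3, Nat.card_eq_fintype_card] at h2
    omega
  rw [QuotientGroup.eq, inv_inv] at hc
  obtain ⟨M, hM'⟩ := hc
  have hMx : Psi (plusForm 4 F) M (x ^ e l) = x ^ e k := by
    rw [hM', ← hφ l, ← hφ k, MulAut.mul_apply, MulAut.inv_apply_self]
  rcases hM _ _ M (heB l) (heB k) hMx with h1 | h1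
  · exact (hne l k (Ne.symm hkl)).1 h1
  · exact (hne l k (Ne.symm hkl)).2 h1

/-- the units -/
def uu : Fin 7 → ℕ := ![1, 2, 3, 4, 6, 7, 8]

/-- **Three classes of elements of order `A * B`.** -/
theorem exists_three_AB {p f d A B : ℕ} (hp : p.Prime) (hF : Fintype.card F = p ^ f) (h : AB p f d A B)
    (hA : 17 ≤ A) :
    ∃ x y z : P (plusForm 4 F), orderOf x = A * B ∧ orderOf y = A * B ∧ orderOf z = A * B ∧
      (∀ φ : P (plusForm 4 F) ≃* P (plusForm 4 F), φ x ≠ y) ∧ (∀ φ : P (plusForm 4 F) ≃* P (plusForm 4 F), φ x ≠ z) ∧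
      ∀ φ : P (plusForm 4 F) ≃* P (plusForm 4 F), φ y ≠ z := by
  classical
  obtain ⟨x, hx, hM⟩ := exists_core hp hF h
  have hcop : ∀ k, Nat.Coprime A (uu k) := by
    have h2 := h.cop_prime (a := 2) (Or.inl rfl)
    have h3 := h.cop_prime (a := 3) (Or.inr (Or.inl rfl))
    have h7 := h.cop_prime (a := 7) (Or.inr (Or.inr rfl))
    intro k
    fin_cases k
    · exact Nat.coprime_one_right A
    · exact h2
    · exact h3
    · show Nat.Coprime A 4
      rw [show 4 = 2 * 2 by norm_num]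
      exact Nat.Coprime.mul_right h2 h2
    · show Nat.Coprime A 6
      rw [show 6 = 2 * 3 by norm_num]
      exact Nat.Coprime.mul_right h2 h3
    · exact h7
    · show Nat.Coprime A 8
      rw [show 8 = 2 * (2 * 2) by norm_num]
      exact Nat.Coprime.mul_right h2 (Nat.Coprime.mul_right h2 h2)
  have hule : ∀ k, uu k ≤ 8 := by decide
  have hupos : ∀ k, 1 ≤ uu k := by decide
  have huinj : Function.Injective uu := by decide
  have huadd : ∀ k l, k ≠ l → uu k + uu l ≤ 15 := by decide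
  let e : Fin 7 → ℕ := fun k => (Nat.chineseRemainder h.cop (uu k) 1 : ℕ)
  have heA : ∀ k, e k ≡ uu k [MOD A] := fun k => (Nat.chineseRemainder h.cop (uu k) 1).2.1
  have heB : ∀ k, e k ≡ 1 [MOD B] := fun k => (Nat.chineseRemainder h.cop (uu k) 1).2.2
  have hecop : ∀ k, Nat.Coprime (A * B) (e k) := by
    intro k
    apply Nat.Coprime.mul_left
    · have h1 := hcop k
      rw [Nat.coprime_iff_gcd_eq_one] at h1 ⊢
      rw [Nat.gcd_comm, (heA k).gcd_eq, Nat.gcd_comm]
      exact h1
    · rw [Nat.coprime_iff_gcd_eq_one, Nat.gcd_comm, (heB k).gcd_eq, Nat.gcd_one_left]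
  have hord : ∀ k, orderOf (x ^ e k) = A * B := by
    intro k
    rw [Nat.Coprime.orderOf_pow, hx]
    rw [hx]
    exact hecop k
  have hne : ∀ k l, k ≠ l → ¬ (e l ≡ e k [MOD A]) ∧ ¬ A ∣ e k + e l := by
    intro k l hkl
    have h1 := hule k
    have h2 := hule l
    have h3 := hupos k
    have h4 := huadd k l hkl
    constructor
    · intro h5
      have h6 : uu l ≡ uu k [MOD A] := (heA l).symm.trans (h5.trans (heA k))
      exact hkl (huinj (Nat.ModEq.eq_of_lt_of_lt h6 (by omega) (by omega))).symm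
    · intro h5
      have h6 : uu k + uu l ≡ 0 [MOD A] := ((heA k).symm.add (heA l).symm).trans ((Nat.modEq_zero_iff_dvd).2 h5)
      have h7 := Nat.le_of_dvd (by omega) ((Nat.modEq_zero_iff_dvd).1 h6)
      omega
  -- the classes
  let C : Fin 7 → Finset (Fin 7) := fun a => Finset.univ.filter fun k =>
    ∃ φ : P (plusForm 4 F) ≃* P (plusForm 4 F), φ (x ^ e a) = x ^ e k
  have hC : ∀ a, (C a).card ≤ 3 := by
    intro a
    by_contra hcard
    push Not at hcard
    refine not_four h hx hM (α := C a) (by rw [Fintype.card_coe]; omega) (fun k => e k) (fun k => heB k)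
      (fun k l hkl => hne k l fun h1 => hkl (Subtype.ext h1)) (x ^ e a) fun k => ?_
    have h1 := k.2
    simp only [C, Finset.mem_filter, Finset.mem_univ, true_and] at h1
    exact h1
  obtain ⟨b, hb⟩ : ∃ b, b ∉ C 0 := by
    by_contra hcon
    push Not at hcon
    have h1 : Finset.univ ⊆ C 0 := fun k _ => hcon k
    have h2 := Finset.card_le_card h1
    rw [Finset.card_univ, Fintype.card_fin] at h2
    have := hC 0
    omega
  obtain ⟨c, hc⟩ : ∃ c, c ∉ C 0 ∪ C b := by
    by_contra hcon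
    push Not at hcon
    have h1 : Finset.univ ⊆ C 0 ∪ C b := fun k _ => hcon k
    have h2 := Finset.card_le_card h1
    rw [Finset.card_univ, Fintype.card_fin] at h2
    have := hC 0
    have := hC b
    have := Finset.card_union_le (C 0) (C b)
    omega
  rw [Finset.mem_union, not_or] at hc
  simp only [C, Finset.mem_filter, Finset.mem_univ, true_and, not_exists] at hb hc
  exact ⟨x ^ e 0, x ^ e b, x ^ e c, hord 0, hord b, hord c, hb, hc.1, hc.2⟩

end main

end Cfsg.Agent.H964.Opm
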