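import Cfsg.Agent.H439.Der.Tools

/-!
# S3500-OPM: a missing element and its commuting partner (helper964)

* `two_of_missing`, `twoT_of_missing` : `x` missing, `w` commuting, of coprime order, `w ≠ 1`: `x` and `x * w`.
* `two_of_cyc`, `twoT_of_cyc` : all elements of order `r` of `R` conjugate up to powers, two different classes in `T`.
-/

set_option autoImplicit false

namespace Cfsg.Agent.H964.Opm

open Cfsg.Agent.H439.Der

variable {T : Type*} [Group T] {R : Subgroup T}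

/-- `x` is a power of `x * w` -/
theorem exists_pow_eq {x w : T} {r s : ℕ} (hrs : Nat.Coprime r s) (hx : x ^ r = 1) (hw : w ^ s = 1)
    (hc : Commute x w) : ∃ n, (x * w) ^ n = x := by
  obtain ⟨k, h1, h2⟩ := Nat.chineseRemainder hrs 1 0
  refine ⟨k, ?_⟩
  rw [hc.mul_pow]
  have e1 : x ^ k = x := by
    conv_rhs => rw [← pow_one x]
    exact pow_eq_pow_iff_modEq.2 (h1.of_dvd (orderOf_dvd_of_pow_eq_one hx))
  have e2 : w ^ k = 1 := by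
    rw [← pow_zero w]
    exact pow_eq_pow_iff_modEq.2 (h2.of_dvd (orderOf_dvd_of_pow_eq_one hw))
  rw [e1, e2, mul_one]

theorem mul_pow_ne {x w : T} {r s : ℕ} (hrs : Nat.Coprime r s) (hx : x ^ r = 1) (hw : w ^ s = 1)
    (hw1 : w ≠ 1) (hc : Commute x w) : (x * w) ^ r ≠ 1 := by
  intro h
  rw [hc.mul_pow, hx, one_mul] at h
  apply hw1
  have h1 := orderOf_dvd_of_pow_eq_one h
  have h2 := orderOf_dvd_of_pow_eq_one hw
  exact orderOf_eq_one_iff.1 (Nat.eq_one_of_dvd_coprimes hrs h1 h2)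

/-- **a missing element and a commuting element** -/
theorem two_of_missing {x w : T} {r s : ℕ} (hrs : Nat.Coprime r s) (hx : x ^ r = 1) (hw : w ^ s = 1)
    (hw1 : w ≠ 1) (hc : Commute x w) (hm : ∀ φ : T ≃* T, φ x ∉ R) : Two T R := by
  refine ⟨x, x * w, hm, fun φ hφ => ?_, fun φ hφ => ?_⟩
  · obtain ⟨n, hn⟩ := exists_pow_eq hrs hx hw hc
    apply hm φ
    rw [← hn, map_pow]
    exact R.pow_mem hφ n
  · apply mul_pow_ne hrs hx hw hw1 hc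
    rw [← hφ, ← map_pow, hx, map_one]

/-- the version for conjugacy -/
theorem twoT_of_missing {x w : T} {r s : ℕ} (hrs : Nat.Coprime r s) (hx : x ^ r = 1) (hw : w ^ s = 1)
    (hw1 : w ≠ 1) (hc : Commute x w) (hm : ∀ g : T, g * x * g⁻¹ ∉ R) : TwoT T R := by
  refine ⟨x, x * w, hm, fun g hg => ?_, fun g hg => ?_⟩
  · obtain ⟨n, hn⟩ := exists_pow_eq hrs hx hw hc
    apply hm g
    rw [← hn, ← conj_pow]
    exact R.pow_mem hg n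
  · apply mul_pow_ne hrs hx hw hw1 hc
    rw [← hg, conj_pow, hx, mul_one, mul_inv_cancel]

/-- the elements of order `r` of `R` are conjugate up to powers -/
def RPow (R : Subgroup T) (r : ℕ) : Prop :=
  ∀ a b : R, orderOf a = r → orderOf b = r → ∃ (c : R) (j : ℤ), b = c * a ^ j * c⁻¹

theorem RPow.nat {r : ℕ} (hr : 0 < r) (hR : RPow R r) {a b : T} (ha : a ∈ R) (hb : b ∈ R) (hoa : orderOf a = r)
    (hob : orderOf b = r) : ∃ (c : T) (n : ℕ), b = c * a ^ n * c⁻¹ := by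
  obtain ⟨c, j, hc⟩ := hR ⟨a, ha⟩ ⟨b, hb⟩ (by rw [Subgroup.orderOf_mk, hoa]) (by rw [Subgroup.orderOf_mk, hob])
  have hc' : b = (c : T) * a ^ j * (c : T)⁻¹ := congrArg Subtype.val hc
  have hfo : IsOfFinOrder a := by
    rw [← orderOf_pos_iff, hoa]
    exact hr
  have hmem : a ^ j ∈ Subgroup.zpowers a := ⟨j, rfl⟩
  classical
  rw [hfo.mem_zpowers_iff_mem_range_orderOf] at hmem
  obtain ⟨n, -, hn⟩ := Finset.mem_image.1 hmem
  exact ⟨c, n, by rw [hc', hn]⟩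

/-- **two classes of elements of order `r`** -/
theorem two_of_cyc {r s₁ s₂ : ℕ} (hr : 0 < r) {x₁ x₂ w₁ w₂ : T} (h1 : orderOf x₁ = r) (h2 : orderOf x₂ = r)
    (hne : ∀ (φ : T ≃* T) (n : ℕ), φ x₂ ≠ x₁ ^ n)
    (hs₁ : Nat.Coprime r s₁) (hs₂ : Nat.Coprime r s₂) (hw₁ : w₁ ^ s₁ = 1) (hw₂ : w₂ ^ s₂ = 1)
    (hn₁ : w₁ ≠ 1) (hn₂ : w₂ ≠ 1) (hc₁ : Commute x₁ w₁) (hc₂ : Commute x₂ w₂) (hR : RPow R r) : Two T R := by
  by_cases hA : ∀ φ : T ≃* T, φ x₁ ∉ R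
  · exact two_of_missing hs₁ (by rw [← h1]; exact pow_orderOf_eq_one x₁) hw₁ hn₁ hc₁ hA
  by_cases hB : ∀ φ : T ≃* T, φ x₂ ∉ R
  · exact two_of_missing hs₂ (by rw [← h2]; exact pow_orderOf_eq_one x₂) hw₂ hn₂ hc₂ hB
  exfalso
  push Not at hA hB
  obtain ⟨φ₁, hφ₁⟩ := hA
  obtain ⟨φ₂, hφ₂⟩ := hB
  obtain ⟨c, n, hc⟩ := hR.nat hr hφ₁ hφ₂ (by rw [MulEquiv.orderOf_eq, h1]) (by rw [MulEquiv.orderOf_eq, h2])
  apply hne (φ₂.trans ((MulAut.conj c).symm.trans φ₁.symm)) n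
  rw [MulEquiv.trans_apply, MulEquiv.trans_apply, hc, ← map_pow]
  have h3 : (MulAut.conj c).symm (c * φ₁ (x₁ ^ n) * c⁻¹) = φ₁ (x₁ ^ n) := by
    rw [MulEquiv.symm_apply_eq]
    rfl
  rw [h3, MulEquiv.symm_apply_apply]

/-- the version for conjugacy -/
theorem twoT_of_cyc {r s₁ s₂ : ℕ} (hr : 0 < r) {x₁ x₂ w₁ w₂ : T} (h1 : orderOf x₁ = r) (h2 : orderOf x₂ = r)
    (hne : ∀ (g : T) (n : ℕ), g * x₂ * g⁻¹ ≠ x₁ ^ n)
    (hs₁ : Nat.Coprime r s₁) (hs₂ : Nat.Coprime r s₂) (hw₁ : w₁ ^ s₁ = 1) (hw₂ : w₂ ^ s₂ = 1)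
    (hn₁ : w₁ ≠ 1) (hn₂ : w₂ ≠ 1) (hc₁ : Commute x₁ w₁) (hc₂ : Commute x₂ w₂) (hR : RPow R r) : TwoT T R := by
  by_cases hA : ∀ g : T, g * x₁ * g⁻¹ ∉ R
  · exact twoT_of_missing hs₁ (by rw [← h1]; exact pow_orderOf_eq_one x₁) hw₁ hn₁ hc₁ hA
  by_cases hB : ∀ g : T, g * x₂ * g⁻¹ ∉ R
  · exact twoT_of_missing hs₂ (by rw [← h2]; exact pow_orderOf_eq_one x₂) hw₂ hn₂ hc₂ hB
  exfalso
  push Not at hA hB
  obtain ⟨g₁, hg₁⟩ := hA
  obtain ⟨g₂, hg₂⟩ := hB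
  obtain ⟨c, n, hc⟩ := hR.nat hr hg₁ hg₂ (by rw [orderOf_conj, h1]) (by rw [orderOf_conj, h2])
  apply hne (g₁⁻¹ * c⁻¹ * g₂) n
  have h3 : x₂ = g₂⁻¹ * (c * (g₁ * x₁ * g₁⁻¹) ^ n * c⁻¹) * g₂ := by
    rw [← hc]
    group
  rw [h3, conj_pow]
  group

end Cfsg.Agent.H964.Opm
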