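import Cfsg.Agent.H964.Opm.Semi
import Cfsg.Agent.H964.Opm.Tools

/-!
# S3500-OPM: Siegel elements commuting with an isometry (helper964)

`exists_siegel` : if `T ∈ O Q` fixes a subspace of dimension at least 3 pointwise, it commutes with an element of order
`p` (the characteristic) of `E Q`, not in the centre.
-/

set_option autoImplicit false
set_option linter.unusedSectionVars false

namespace Cfsg.Agent.H964.Opm

open Cfsg.Agent.LieClassical.OrthCore Cfsg.Agent.LieClassical.OrthTrans Cfsg.Agent.LieClassical.OrthFinite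
  Cfsg.Agent.ClassicalGeometry.OrthAut1 Cfsg.Agent.ClassicalGeometry.OrthSemi
  Cfsg.Agent.ClassicalGeometry.OrthSemiForms Cfsg.Agent.H439.Der
open Module QuadraticMap

variable {F V : Type*} [Field F] [AddCommGroup V] [Module F V] {Q : QuadraticForm F V}

theorem siegel_pow {u w : V} (hu : Q u = 0) (hw : polar Q u w = 0) (n : ℕ) (hn : polar Q u (n • w) = 0) :
    siegel Q u w hu hw ^ n = siegel Q u (n • w) hu hn := by
  induction n with
  | zero =>
    rw [pow_zero]
    ext v
    rw [siegel_apply, zero_smul]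
    show v = _
    simp [QuadraticMap.map_zero]
  | succ n ih =>
    have h1 : polar Q u (n • w) = 0 := by
      rw [← Nat.cast_smul_eq_nsmul F, polar_smul_right, hw, smul_zero]
    have h2 : polar Q u (n • w + w) = 0 := by rw [polar_add_right, h1, hw, add_zero]
    rw [pow_succ, ih h1, siegel_mul hu h1 hw h2]
    congr 1
    rw [add_smul, one_smul]

theorem siegel_ne_one (hQ : Nondeg Q) {u w : V} (hu : Q u = 0) (hw : polar Q u w = 0) (hu0 : u ≠ 0)
    (hwu : w ∉ Submodule.span F {u}) : siegel Q u w hu hw ≠ 1 := by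
  intro h
  obtain ⟨v, hv⟩ := hQ.exists_polar_eq hu0 1
  have h1 : siegel Q u w hu hw v = v := by rw [h]; rfl
  rw [siegel_apply, hv, one_smul, mul_one] at h1
  apply hwu
  rw [Submodule.mem_span_singleton]
  refine ⟨polar Q w v + Q w, ?_⟩
  rw [add_smul]
  have h2 : v + w - polar Q w v • u - Q w • u = v := h1
  have h3 : w = (polar Q w v • u + Q w • u) + (v + w - polar Q w v • u - Q w • u - v) := by abel
  rw [h2, sub_self, add_zero] at h3
  exact h3.symm

/-- central elements of order the characteristic are trivial -/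
theorem eq_one_of_center (hG : Good Q) {p : ℕ} (hp : p.Prime) [CharP F p] {X : ↥(E Q)} (hX : X ^ p = 1)
    (hc : X ∈ Subgroup.center ↥(E Q)) : X = 1 := by
  obtain ⟨c, hc'⟩ := center_scalar hG hc
  have hpow : ∀ n : ℕ, ∀ v : V, ((X ^ n : ↥(E Q)) : V ≃ₗ[F] V) v = c ^ n • v := by
    intro n
    induction n with
    | zero => intro v; rw [pow_zero, pow_zero, one_smul]; rfl
    | succ n ih =>
      intro v
      rw [pow_succ']
      show (X : V ≃ₗ[F] V) (((X ^ n : ↥(E Q)) : V ≃ₗ[F] V) v) = _
      rw [ih, hc', smul_smul, pow_succ']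
  obtain ⟨u, -, -, hu0⟩ : ∃ u v : V, Hyp Q u v ∧ u ≠ 0 := by
    obtain ⟨x, hx0, hx⟩ := hG.sing
    obtain ⟨y, hy⟩ := Cfsg.Agent.LieClassical.OrthTrans.exists_hyp hG.nondeg hx hx0
    exact ⟨x, y, hy, hx0⟩
  have h1 : c ^ p = 1 := by
    have h2 := hpow p u
    rw [hX] at h2
    have h3 : (c ^ p - 1) • u = 0 := by
      rw [sub_smul, one_smul, ← h2, sub_eq_zero]
      rfl
    rcases smul_eq_zero.1 h3 with h4 | h4
    · exact sub_eq_zero.1 h4
    · exact absurd h4 hu0
  have : Fact p.Prime := ⟨hp⟩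
  have h2 : (c - 1) ^ p = 0 := by rw [sub_pow_char, h1, one_pow, sub_self]
  have h3 : c = 1 := sub_eq_zero.1 (pow_eq_zero_iff hp.ne_zero |>.1 h2)
  apply Subtype.ext
  ext v
  rw [hc', h3, one_smul]
  rfl

variable [FiniteDimensional F V]

/-- **A commuting Siegel element.** -/
theorem exists_siegel [Finite F] (hG : Good Q) {p : ℕ} (hp : p.Prime) [CharP F p] {U : Submodule F V}
    (hU : 3 ≤ finrank F U) :
    ∃ W : ↥(E Q), W ^ p = 1 ∧ W ∉ Subgroup.center ↥(E Q) ∧
      ∀ X : ↥(E Q), (∀ u ∈ U, (X : V ≃ₗ[F] V) u = u) → Commute X W := by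
  obtain ⟨u, huU, hu0, hu⟩ := exists_sing_mem (Q := Q) U hU
  -- a second vector
  obtain ⟨w, hwU, hw, hwu⟩ : ∃ w ∈ U, polar Q u w = 0 ∧ w ∉ Submodule.span F {u} := by
    let f : V →ₗ[F] F := polarBilin Q u
    have h1 : finrank F U ≤ finrank F ↥(U ⊓ LinearMap.ker f) + 1 := by
      have h2 := LinearMap.finrank_range_add_finrank_ker (f.domRestrict U)
      have h3 : finrank F (LinearMap.range (f.domRestrict U)) ≤ 1 := by
        refine le_trans (Submodule.finrank_le _) ?_
        rw [finrank_self]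
      have h4 : finrank F (LinearMap.ker (f.domRestrict U)) ≤ finrank F ↥(U ⊓ LinearMap.ker f) := by
        have h5 : (LinearMap.ker (f.domRestrict U)).map U.subtype ≤ U ⊓ LinearMap.ker f := by
          rintro _ ⟨x, hx, rfl⟩
          exact ⟨x.2, hx⟩
        have h6 := Submodule.finrank_mono h5
        rwa [Submodule.finrank_map_subtype_eq] at h6
      omega
    by_contra hcon
    push Not at hcon
    have h2 : U ⊓ LinearMap.ker f ≤ Submodule.span F {u} := fun w hw => hcon w hw.1 hw.2
    have h3 := Submodule.finrank_mono h2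
    have h4 := finrank_span_singleton (K := F) hu0
    omega
  have hE : siegel Q u w hu hw ∈ E Q := siegel_mem_E hu hw
  have hpp : (⟨siegel Q u w hu hw, hE⟩ : ↥(E Q)) ^ p = 1 := by
    apply Subtype.ext
    show siegel Q u w hu hw ^ p = 1
    have h0 : p • w = 0 := by
      rw [← Nat.cast_smul_eq_nsmul F, CharP.cast_eq_zero, zero_smul]
    rw [siegel_pow hu hw p (by rw [h0, polar_zero_right])]
    ext v
    rw [siegel_apply, h0]
    simp
  refine ⟨⟨siegel Q u w hu hw, hE⟩, hpp, fun hc => ?_, fun X hX => ?_⟩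
  · have h1 := eq_one_of_center hG hp hpp hc
    exact siegel_ne_one hG.nondeg hu hw hu0 hwu (congrArg Subtype.val h1)
  · have h1 : (X : V ≃ₗ[F] V) * siegel Q u w hu hw * (X : V ≃ₗ[F] V)⁻¹ = siegel Q u w hu hw := by
      have h2 := siegel_conj (E_le_O X.2) hu hw (by rw [hX u huU]; exact hu) (by rw [hX u huU, hX w hwU]; exact hw)
      rw [h2]
      congr 1
      · exact hX u huU
      · exact hX w hwU
    apply Subtype.ext
    show (X : V ≃ₗ[F] V) * siegel Q u w hu hw = siegel Q u w hu hw * (X : V ≃ₗ[F] V)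
    rwa [mul_inv_eq_iff_eq_mul] at h1

end Cfsg.Agent.H964.Opm
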