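import Cfsg.Agent.H372.Orth
import Cfsg.Agent.H964.Opm.Sieg

/-!
# S3500-OPM: the Levi subgroup `SL_m` of `Ω⁺_{2m}` and the norm one group of the field of degree `m` (helper964)
-/

set_option autoImplicit false
set_option linter.unusedSectionVars false

namespace Cfsg.Agent.H964.Opm

open Cfsg.Agent.LieClassical.OrthCore Cfsg.Agent.LieClassical.OrthTrans Cfsg.Agent.LieClassical.OrthFinite
  Cfsg.Agent.LieClassical.OrthForms
  Cfsg.Agent.ClassicalGeometry.OrthAut1 Cfsg.Agent.ClassicalGeometry.OrthSemi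
  Cfsg.Agent.ClassicalGeometry.OrthSemiForms Cfsg.Agent.H439.Der Cfsg.Agent.H372
open Module QuadraticMap Matrix

section levi

variable {F : Type*} [Field F] {m : ℕ}

/-- the Levi elements as linear automorphisms -/
noncomputable def leviLin (m : ℕ) : SpecialLinearGroup (Fin m) F →* ((Fin m ⊕ Fin m → F) ≃ₗ[F] (Fin m ⊕ Fin m → F)) :=
  (glEquiv (Fin m ⊕ Fin m) F).toMonoidHom.comp ((leviGL m).comp SpecialLinearGroup.toGL)

theorem leviLin_apply (A : SpecialLinearGroup (Fin m) F) (v : Fin m ⊕ Fin m → F) :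
    leviLin m A v = Sum.elim (A.1 *ᵥ (v ∘ Sum.inl)) ((A⁻¹).1ᵀ *ᵥ (v ∘ Sum.inr)) := by
  have h1 : leviLin m A v = fromBlocks A.1 0 0 (A⁻¹).1ᵀ *ᵥ v := by
    have h2 : (((SpecialLinearGroup.toGL A)⁻¹ : GL (Fin m) F) : Matrix (Fin m) (Fin m) F) = (A⁻¹).1 := by
      rw [← map_inv]
      rfl
    show ((leviGL m (SpecialLinearGroup.toGL A) : GL (Fin m ⊕ Fin m) F) : Matrix (Fin m ⊕ Fin m) (Fin m ⊕ Fin m) F) *ᵥ v = _
    rw [coe_leviGL, h2]
    rfl
  rw [h1, fromBlocks_mulVec]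
  simp only [zero_mulVec, add_zero, zero_add]

theorem leviLin_mem_O (A : SpecialLinearGroup (Fin m) F) : leviLin m A ∈ O (plusForm m F) := by
  intro v
  have h := mem_isometryGroup_iff.1 (leviGL_mem m (SpecialLinearGroup.toGL A)) v
  rw [← coe_plusForm] at h
  exact h

theorem leviLin_mem_E [Finite F] (hm : 3 ≤ m) (A : SpecialLinearGroup (Fin m) F) :
    leviLin m A ∈ E (plusForm m F) := by
  have := Fintype.ofFinite F
  rw [← (good_plus (F := F) hm).commutator_eq_E]
  have h1 : A ∈ commutator (SpecialLinearGroup (Fin m) F) := by rw [sl_perfect hm]; trivial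
  have h2 : leviLin m A ∈ (commutator (SpecialLinearGroup (Fin m) F)).map (leviLin m) := ⟨A, h1, rfl⟩
  rw [commutator_def, Subgroup.map_commutator] at h2
  refine Subgroup.commutator_mono ?_ ?_ h2
  all_goals
    rintro _ ⟨B, -, rfl⟩
    exact leviLin_mem_O B

/-- the Levi subgroup -/
noncomputable def leviE [Finite F] (hm : 3 ≤ m) : SpecialLinearGroup (Fin m) F →* ↥(E (plusForm m F)) :=
  (leviLin m).codRestrict _ (leviLin_mem_E hm)

theorem leviE_apply [Finite F] (hm : 3 ≤ m) (A : SpecialLinearGroup (Fin m) F) (v : Fin m ⊕ Fin m → F) :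
    (leviE hm A : (Fin m ⊕ Fin m → F) ≃ₗ[F] (Fin m ⊕ Fin m → F)) v =
      Sum.elim (A.1 *ᵥ (v ∘ Sum.inl)) ((A⁻¹).1ᵀ *ᵥ (v ∘ Sum.inr)) := leviLin_apply A v

theorem leviE_injective [Finite F] (hm : 3 ≤ m) : Function.Injective (leviE (F := F) hm) := by
  intro A B h
  have h1 : leviLin m A = leviLin m B := congrArg Subtype.val h
  have h2 := leviGL_injective m ((glEquiv (Fin m ⊕ Fin m) F).injective h1)
  exact SpecialLinearGroup.toGL_injective h2

/-- the Levi elements without eigenvalue 1 have no fixed vectors -/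
theorem leviE_fix [Finite F] (hm : 3 ≤ m) {A : SpecialLinearGroup (Fin m) F} {B : Matrix (Fin m) (Fin m) F}
    (hB : B * (A.1 - 1) = 1) {v : Fin m ⊕ Fin m → F}
    (hv : (leviE hm A : (Fin m ⊕ Fin m → F) ≃ₗ[F] (Fin m ⊕ Fin m → F)) v = v) : v = 0 := by
  rw [leviE_apply] at hv
  have h1 : A.1 *ᵥ (v ∘ Sum.inl) = v ∘ Sum.inl := by
    conv_rhs => rw [← hv]
    rw [Sum.elim_comp_inl]
  have h2 : (A⁻¹).1ᵀ *ᵥ (v ∘ Sum.inr) = v ∘ Sum.inr := by
    conv_rhs => rw [← hv]
    rw [Sum.elim_comp_inr]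
  have h3 : A.1ᵀ *ᵥ (v ∘ Sum.inr) = v ∘ Sum.inr := by
    conv_lhs => rw [← h2]
    rw [mulVec_mulVec, ← transpose_mul]
    have : (A⁻¹).1 * A.1 = 1 := congrArg Subtype.val (inv_mul_cancel A)
    rw [this, transpose_one, one_mulVec]
  have e1 : v ∘ Sum.inl = 0 := by
    have h4 : (B * (A.1 - 1)) *ᵥ (v ∘ Sum.inl) = 0 := by
      rw [← mulVec_mulVec, sub_mulVec, h1, one_mulVec, sub_self, mulVec_zero]
    rwa [hB, one_mulVec] at h4
  have e2 : v ∘ Sum.inr = 0 := by
    have hB' : Bᵀ * (A.1 - 1)ᵀ = 1 := by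
      have h5 : (A.1 - 1) * B = 1 := mul_eq_one_comm.1 hB
      rw [← transpose_mul, h5, transpose_one]
    have h4 : (Bᵀ * (A.1 - 1)ᵀ) *ᵥ (v ∘ Sum.inr) = 0 := by
      rw [← mulVec_mulVec, transpose_sub, transpose_one, sub_mulVec, h3, one_mulVec, sub_self, mulVec_zero]
    rwa [hB', one_mulVec] at h4
  funext i
  rcases i with i | i
  · exact congrFun e1 i
  · exact congrFun e2 i

end levi

section normone

variable {F : Type*} [Field F] {m : ℕ} {L : Type*} [Field L] [Algebra F L]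

/-- the norm one group in `SL_m` -/
noncomputable def slHom (b : Basis (Fin m) F L) :
    ↥(Units.map (Algebra.norm F : L →* F)).ker →* SpecialLinearGroup (Fin m) F where
  toFun ζ := ⟨Algebra.leftMulMatrix b ((ζ : Lˣ) : L), by
    have h1 : Algebra.norm F ((ζ : Lˣ) : L) = 1 := congrArg Units.val (MonoidHom.mem_ker.1 ζ.2)
    rw [← Algebra.norm_eq_matrix_det, h1]⟩
  map_one' := by
    apply Subtype.ext
    show Algebra.leftMulMatrix b (1 : L) = 1
    rw [map_one]
  map_mul' x y := by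
    apply Subtype.ext
    show Algebra.leftMulMatrix b (((x : Lˣ) : L) * ((y : Lˣ) : L)) = _
    rw [map_mul]
    rfl

theorem slHom_injective (b : Basis (Fin m) F L) : Function.Injective (slHom b) := by
  intro x y h
  have h1 : Algebra.leftMulMatrix b ((x : Lˣ) : L) = Algebra.leftMulMatrix b ((y : Lˣ) : L) := congrArg Subtype.val h
  exact Subtype.ext (Units.ext (Algebra.leftMulMatrix_injective b h1))

theorem slHom_inv (b : Basis (Fin m) F L) {ζ : ↥(Units.map (Algebra.norm F : L →* F)).ker} (hζ : ζ ≠ 1) :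
    ∃ B : Matrix (Fin m) (Fin m) F, B * ((slHom b ζ).1 - 1) = 1 := by
  have h0 : ((ζ : Lˣ) : L) - 1 ≠ 0 := by
    intro h
    apply hζ
    exact Subtype.ext (Units.ext (sub_eq_zero.1 h))
  refine ⟨Algebra.leftMulMatrix b (((ζ : Lˣ) : L) - 1)⁻¹, ?_⟩
  have h1 : (slHom b ζ).1 - 1 = Algebra.leftMulMatrix b (((ζ : Lˣ) : L) - 1) := by
    rw [map_sub, map_one]
    rfl
  rw [h1, ← map_mul, inv_mul_cancel₀ h0, map_one]

/-- elements of norm one of a given order -/
theorem exists_norm_one [Finite F] [Finite L] {N : ℕ} (hN : 0 < N)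
    (h : N ∣ (Nat.card L - 1) / (Nat.card F - 1)) (hd : (Nat.card F - 1) ∣ (Nat.card L - 1)) :
    ∃ ζ : ↥(Units.map (Algebra.norm F : L →* F)).ker, orderOf ζ = N := by
  obtain ⟨g, hg⟩ := IsCyclic.exists_generator (α := Lˣ)
  have ho : orderOf g = Nat.card L - 1 := by
    rw [orderOf_eq_card_of_forall_mem_zpowers hg, Nat.card_units]
  have hL : 0 < Nat.card L - 1 := by
    have : 1 < Nat.card L := Finite.one_lt_card
    omega
  have hNd : N ∣ Nat.card L - 1 := h.trans (Nat.div_dvd_of_dvd hd)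
  have h1 : orderOf (g ^ ((Nat.card L - 1) / N)) = N := by
    rw [orderOf_pow_of_dvd (Nat.div_pos (Nat.le_of_dvd hL hNd) hN).ne' (by rw [ho]; exact Nat.div_dvd_of_dvd hNd), ho,
      Nat.div_div_self hNd hL.ne']
  have h2 : g ^ ((Nat.card L - 1) / N) ∈ (Units.map (Algebra.norm F : L →* F)).ker := by
    rw [MonoidHom.mem_ker]
    apply Units.ext
    show Algebra.norm F ((g ^ ((Nat.card L - 1) / N) : Lˣ) : L) = 1
    apply (algebraMap F L).injective
    rw [FiniteField.algebraMap_norm_eq_pow, map_one]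
    have h3 : (g ^ ((Nat.card L - 1) / N)) ^ ((Nat.card L - 1) / (Nat.card F - 1)) = 1 := by
      rw [← orderOf_dvd_iff_pow_eq_one, h1]
      exact h
    exact congrArg Units.val h3
  exact ⟨⟨_, h2⟩, by rw [Subgroup.orderOf_mk, h1]⟩

end normone

end Cfsg.Agent.H964.Opm
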