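import Cfsg.Agent.H884.ElFin
import Cfsg.Agent.H964.Opm.Levi

/-!
# S3500-OPM: elements of order `r` with and without fixed vectors in `Ω⁺_{2m}(q)`, `m` even (helper964)
-/

set_option autoImplicit false
set_option linter.unusedSectionVars false

namespace Cfsg.Agent.H964.Opm

open Cfsg.Agent.LieClassical.OrthCore Cfsg.Agent.LieClassical.OrthTrans Cfsg.Agent.LieClassical.OrthFinite
  Cfsg.Agent.LieClassical.OrthForms
  Cfsg.Agent.ClassicalGeometry.OrthAut1 Cfsg.Agent.ClassicalGeometry.OrthSemi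
  Cfsg.Agent.ClassicalGeometry.OrthSemiForms Cfsg.Agent.H439.Der Cfsg.Agent.H372
open Module QuadraticMap Matrix

section gen

variable {F V : Type*} [Field F] [AddCommGroup V] [Module F V] {Q : QuadraticForm F V}

/-- `X` has a nonzero fixed vector -/
def Fixes (X : ↥(E Q)) : Prop := ∃ v : V, v ≠ 0 ∧ (X : V ≃ₗ[F] V) v = v

theorem Fixes.pow {X : ↥(E Q)} (h : Fixes X) (n : ℕ) : Fixes (X ^ n) := by
  obtain ⟨v, hv0, hv⟩ := h
  refine ⟨v, hv0, ?_⟩
  induction n with
  | zero => rw [pow_zero]; rfl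
  | succ n ih =>
    rw [pow_succ]
    show ((X ^ n : ↥(E Q)) : V ≃ₗ[F] V) ((X : V ≃ₗ[F] V) v) = v
    rw [hv, ih]

/-- the order in the quotient -/
theorem orderOf_mk_eq (hG : Good Q) {r : ℕ} (hr : r.Prime) (hr2 : r ≠ 2) {X : ↥(E Q)} (hX : orderOf X = r) :
    orderOf (QuotientGroup.mk X : P Q) = r := by
  have := Fact.mk hr
  apply orderOf_eq_prime
  · rw [← QuotientGroup.mk_pow, ← hX, pow_orderOf_eq_one, QuotientGroup.mk_one]
  · intro h
    have h1 := center_sq hG ((QuotientGroup.eq_one_iff X).1 h)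
    have h2 : orderOf X ∣ 2 := orderOf_dvd_of_pow_eq_one (by rw [pow_two]; exact h1)
    rw [hX] at h2
    exact hr2 ((Nat.prime_dvd_prime_iff_eq hr Nat.prime_two).1 h2)

theorem mk_ne_one {W : ↥(E Q)} (h : W ∉ Subgroup.center ↥(E Q)) : (QuotientGroup.mk W : P Q) ≠ 1 :=
  fun h1 => h ((QuotientGroup.eq_one_iff W).1 h1)

/-- semisimilitudes preserve the existence of fixed vectors -/
theorem fixes_of_psi (hG : Good Q) {v : ℕ} (hv : Odd v) {X Y : ↥(E Q)} (hX : X ^ v = 1) (hY : Y ^ v = 1)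
    {M : Gam Q} (h : Psi Q M (QuotientGroup.mk X) = QuotientGroup.mk Y) (hf : Fixes Y) : Fixes X := by
  have h1 := conjE_eq hG hv hX hY M h
  obtain ⟨u, hu0, hu⟩ := hf
  obtain ⟨w, rfl⟩ := M.1.surjective u
  refine ⟨w, ?_, ?_⟩
  · rintro rfl
    obtain ⟨σ, c, hσ⟩ := M.2
    exact hu0 hσ.map_zero
  · apply M.1.injective
    rw [← h1, coe_conjE, conjLin_apply'] at hu
    exact hu

end gen

section plus

variable {F : Type} [Field F] [Fintype F] {m : ℕ}

theorem quadPlus_eq : LieClassical.OmegaReindex.quadPlus m F = plusForm m F := by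
  apply DFunLike.coe_injective
  rw [LieClassical.OmegaReindex.coe_quadPlus, coe_plusForm]

theorem data_plusForm (hm : 4 ≤ m) : H390.Lift.Data (plusForm m F) := by
  rw [← quadPlus_eq]
  exact H884.El.data_plus hm

/-- isometries of odd order are in `E` -/
theorem mem_E_of_odd (hm : 4 ≤ m) {T : (Fin m ⊕ Fin m → F) ≃ₗ[F] (Fin m ⊕ Fin m → F)} (hT : T ∈ O (plusForm m F))
    {r : ℕ} (hr : Odd r) (hTr : T ^ r = 1) : T ∈ E (plusForm m F) := by
  rw [← (good_plus (F := F) (m := m) (by omega)).commutator_eq_E, ← map_Omega]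
  have h1 : T ∈ (isometryHom (plusForm m F)).range := by rw [isometryHom_range]; exact hT
  obtain ⟨g, rfl⟩ := h1
  refine ⟨g, ?_, rfl⟩
  refine H390.Lift.mem_of_odd _ (data_plusForm hm).idx hr ?_
  apply isometryHom_injective
  rw [map_pow, hTr, map_one]

/-- an element of order `r` with fixed space of dimension `m` -/
theorem exists_T (hm : 4 ≤ m) {r : ℕ} (hr : r.Prime) (hr2 : 2 < r) (hrF : (r : F) ≠ 0)
    (h : (Even m ∧ orderOf (Fintype.card F : ZMod r) = m) ∨ (m = 6 ∧ orderOf (Fintype.card F : ZMod r) = 3)) :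
    ∃ X : ↥(E (plusForm m F)), orderOf X = r ∧ m ≤ finrank F (H955.fixS X.1) := by
  have := Fact.mk hr
  have hQ : Nondeg (plusForm m F) := nondeg_plusForm m F
  have hdim : finrank F (Fin m ⊕ Fin m → F) = 2 * m := by
    rw [finrank_fintype_fun_eq_card, Fintype.card_sum, Fintype.card_fin, two_mul]
  obtain ⟨T, hT, hTr, hT1, hd⟩ : ∃ T ∈ O (plusForm m F), T ^ r = 1 ∧ T ≠ 1 ∧ finrank F (H955.comS T) = m := by
    rcases h with ⟨h1, h2⟩ | ⟨h1, h2⟩
    · obtain ⟨T, hT, hTr, hT1, hd, -⟩ := H954.TSing.exists_sharp (r := r) (A := 1) hr2 hrF (by rw [h2]; exact h1) hQ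
        le_rfl (Or.inl ⟨by rw [hdim]; exact even_two_mul m, Or.inl (by rw [hdim, h2]; omega)⟩)
      exact ⟨T, hT, hTr, hT1, by rw [hd, h2, mul_one]⟩
    · obtain ⟨T, hT, hTr, hT1, hd, -⟩ := H954.TSing.exists_sharp_odd (r := r) (A := 1) hr2 hrF (by rw [h2]; decide) hQ
        le_rfl (Or.inl ⟨by rw [hdim]; exact even_two_mul m, Or.inl (by rw [hdim, h2]; omega)⟩)
      exact ⟨T, hT, hTr, hT1, by rw [hd, h2, h1]⟩
  have hE := mem_E_of_odd hm hT (hr.odd_of_ne_two (by omega)) hTr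
  refine ⟨⟨T, hE⟩, ?_, ?_⟩
  · exact orderOf_eq_prime (Subtype.ext hTr) fun h => hT1 (congrArg Subtype.val h)
  · have hpow : (T : Module.End F (Fin m ⊕ Fin m → F)) ^ r = 1 := by
      have h1 : ∀ n : ℕ, (T : Module.End F (Fin m ⊕ Fin m → F)) ^ n = ((T ^ n : (Fin m ⊕ Fin m → F) ≃ₗ[F] (Fin m ⊕ Fin m → F)) : Module.End F (Fin m ⊕ Fin m → F)) := by
        intro n
        induction n with
        | zero => rw [pow_zero, pow_zero]; rfl
        | succ n ih => rw [pow_succ, pow_succ, ih]; rfl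
      rw [h1, hTr]
      rfl
    have h3 := H951.finrank_fx_add_cm (F := F) hrF hpow
    rw [H954.TSing.fx_coe, H954.TSing.cm_coe, hd, hdim] at h3
    show m ≤ finrank F (H955.fixS T)
    omega

/-- **with fixed vectors** -/
theorem exists_x1 (hm : 4 ≤ m) {p : ℕ} (hp : p.Prime) [CharP F p] {r : ℕ} (hr : r.Prime) (hr2 : 2 < r)
    (hrF : (r : F) ≠ 0)
    (h : (Even m ∧ orderOf (Fintype.card F : ZMod r) = m) ∨ (m = 6 ∧ orderOf (Fintype.card F : ZMod r) = 3)) :
    ∃ X W : ↥(E (plusForm m F)), orderOf X = r ∧ Fixes X ∧ W ^ p = 1 ∧ W ∉ Subgroup.center _ ∧ Commute X W := by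
  obtain ⟨X, hX, hd⟩ := exists_T hm hr hr2 hrF h
  obtain ⟨W, h1, h2, h3⟩ := exists_siegel (good_plus (F := F) (m := m) (by omega)) hp
    (U := H955.fixS X.1) (by omega)
  refine ⟨X, W, hX, ?_, h1, h2, h3 X fun u hu => H955.mem_fixS.1 hu⟩
  obtain ⟨u, hu, hu0⟩ := Submodule.exists_mem_ne_zero_of_ne_bot (p := H955.fixS X.1) (by
    intro h0
    rw [h0, finrank_bot] at hd
    omega)
  exact ⟨u, hu0, H955.mem_fixS.1 hu⟩

/-- **without fixed vectors** -/
theorem exists_x2 (hm : 4 ≤ m) (hme : Even m) {r : ℕ} (hr : r.Prime)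
    (hrm : r ∣ Fintype.card F ^ m - 1) (hr2 : ¬ r ∣ Fintype.card F ^ 2 - 1) :
    ∃ X W : ↥(E (plusForm m F)), orderOf X = r ∧ ¬ Fixes X ∧ W ^ (Fintype.card F + 1) = 1 ∧
      W ∉ Subgroup.center _ ∧ Commute X W := by
  obtain ⟨p, hpc⟩ := CharP.exists F
  obtain ⟨f, hp, hF⟩ := FiniteField.card F p
  have := Fact.mk hp
  have : NeZero m := ⟨by omega⟩
  have hq : 1 < Fintype.card F := Fintype.one_lt_card
  have hcL : Nat.card (FiniteField.Extension F p m) = Fintype.card F ^ m := by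
    rw [FiniteField.natCard_extension, Nat.card_eq_fintype_card]
  obtain ⟨k, hk⟩ := hme
  -- the arithmetic
  have hd1 : Fintype.card F - 1 ∣ Fintype.card F ^ m - 1 := by
    simpa using Nat.sub_dvd_pow_sub_pow (Fintype.card F) 1 m
  have hd2 : Fintype.card F ^ 2 - 1 ∣ Fintype.card F ^ m - 1 := by
    have := Nat.sub_dvd_pow_sub_pow (Fintype.card F ^ 2) 1 k
    rwa [one_pow, ← pow_mul, show 2 * k = m by omega] at this
  have hfac : Fintype.card F ^ 2 - 1 = (Fintype.card F + 1) * (Fintype.card F - 1) := by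
    have := Nat.sq_sub_sq (Fintype.card F) 1
    rwa [one_pow] at this
  have hq1 : 0 < Fintype.card F - 1 := by omega
  have hN1 : r ∣ (Fintype.card F ^ m - 1) / (Fintype.card F - 1) := by
    have h1 : r ∣ (Fintype.card F - 1) * ((Fintype.card F ^ m - 1) / (Fintype.card F - 1)) := by
      rwa [Nat.mul_div_cancel' hd1]
    rcases (hr.dvd_mul).1 h1 with h2 | h2
    · exact absurd (hfac ▸ Dvd.dvd.mul_left h2 _) hr2
    · exact h2
  have hN2 : Fintype.card F + 1 ∣ (Fintype.card F ^ m - 1) / (Fintype.card F - 1) := by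
    rw [hfac] at hd2
    exact (Nat.dvd_div_iff_mul_dvd hd1).2 (by rwa [mul_comm])
  have hL : finrank F (FiniteField.Extension F p m) = m := FiniteField.finrank_extension F p m
  let b : Basis (Fin m) F (FiniteField.Extension F p m) := finBasisOfFinrankEq F _ hL
  rw [← hcL, ← Nat.card_eq_fintype_card] at hN1 hN2
  have hd1' : Nat.card F - 1 ∣ Nat.card (FiniteField.Extension F p m) - 1 := by
    rw [hcL, Nat.card_eq_fintype_card]
    exact hd1
  obtain ⟨ζ, hζ⟩ := exists_norm_one (F := F) (L := FiniteField.Extension F p m) hr.pos hN1 hd1'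
  obtain ⟨θ, hθ⟩ := exists_norm_one (F := F) (L := FiniteField.Extension F p m) (by omega) hN2 hd1'
  have hm3 : 3 ≤ m := by omega
  have hinj : Function.Injective ((leviE (F := F) hm3).comp (slHom b)) :=
    (leviE_injective hm3).comp (slHom_injective b)
  refine ⟨leviE hm3 (slHom b ζ), leviE hm3 (slHom b θ), ?_, ?_, ?_, ?_, ?_⟩
  · rw [← hζ]
    exact orderOf_injective ((leviE (F := F) hm3).comp (slHom b)) hinj ζ
  · rintro ⟨v, hv0, hv⟩
    obtain ⟨B, hB⟩ := slHom_inv b (ζ := ζ) (by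
      rintro rfl
      rw [orderOf_one] at hζ
      exact hr.one_lt.ne hζ)
    exact hv0 (leviE_fix hm3 hB hv)
  · rw [← map_pow, ← map_pow, ← Nat.card_eq_fintype_card, ← hθ, pow_orderOf_eq_one, map_one, map_one]
  · intro hc
    have h1 := center_sq (good_plus (F := F) hm3) hc
    have h2 : ((leviE (F := F) hm3).comp (slHom b)) (θ * θ) = 1 := by
      rw [map_mul]
      exact h1
    have h3 : θ * θ = 1 := hinj (by rw [h2, map_one])
    have h4 : orderOf θ ∣ 2 := orderOf_dvd_of_pow_eq_one (by rw [pow_two]; exact h3)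
    have h5 := Nat.le_of_dvd (by norm_num) h4
    rw [hθ, Nat.card_eq_fintype_card] at h5
    omega
  · show leviE hm3 (slHom b ζ) * leviE hm3 (slHom b θ) = _
    rw [← map_mul, ← map_mul, mul_comm ζ θ, map_mul, map_mul]

end plus

end Cfsg.Agent.H964.Opm
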