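import Cfsg.Agent.H964.Opm.Levi

/-!
# S3500-OPM: the torus of order `q ^ m - 1` of `Ω⁺_{2m}(q)` and semisimilitudes (helper964)

* `sq_mem_E` : squares of isometries are in `E Q`
* `lv b : Lˣ →* (V ≃ₗ[F] V)`, `|L : F| = m`
* `lv_conj` : if a semisimilitude conjugates `lv ζ₁` to `lv ζ₂`, then `ζ₂ = ζ₁ ^ (± p ^ t)`
-/

set_option autoImplicit false
set_option linter.unusedSectionVars false

namespace Cfsg.Agent.H964.Opm

open Cfsg.Agent.LieClassical.OrthCore Cfsg.Agent.LieClassical.OrthTrans Cfsg.Agent.LieClassical.OrthFinite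
  Cfsg.Agent.LieClassical.OrthForms
  Cfsg.Agent.ClassicalGeometry.OrthAut1 Cfsg.Agent.ClassicalGeometry.OrthSemi
  Cfsg.Agent.ClassicalGeometry.OrthSemiForms Cfsg.Agent.H439.Der Cfsg.Agent.H372
open Module QuadraticMap Matrix Polynomial

section sq

variable {F V : Type*} [Field F] [AddCommGroup V] [Module F V] [FiniteDimensional F V] {Q : QuadraticForm F V}

/-- squares of isometries are in `E Q` -/
theorem sq_mem_E (hG : Good Q) {T : V ≃ₗ[F] V} (hT : T ∈ O Q) : T * T ∈ E Q := by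
  have hcomm : ∀ a b : V ≃ₗ[F] V, a ∈ O Q → b ∈ O Q → a * b * a⁻¹ * b⁻¹ ∈ E Q := by
    intro a b ha hb
    rw [← hG.commutator_eq_E]
    exact Subgroup.commutator_mem_commutator ha hb
  have hnorm : ∀ g h : V ≃ₗ[F] V, g ∈ O Q → h ∈ E Q → g * h * g⁻¹ ∈ E Q := fun g h hg hh => conj_mem_E hg hh
  rw [O_eq_closure hG.nondeg] at hT
  have key : ∀ x (_ : x ∈ Subgroup.closure (reflSet Q ∪ siegelSet Q)), x ∈ O Q ∧ x * x ∈ E Q := by
    intro x hx
    induction hx using Subgroup.closure_induction with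
    | mem x hx =>
      rcases hx with ⟨v, hv, rfl⟩ | hx
      · exact ⟨refl_mem_O hv, by rw [refl_mul_self]; exact (E Q).one_mem⟩
      · have h1 : x ∈ E Q := Subgroup.subset_closure hx
        exact ⟨E_le_O h1, (E Q).mul_mem h1 h1⟩
    | one => exact ⟨(O Q).one_mem, by rw [mul_one]; exact (E Q).one_mem⟩
    | mul x y _ _ hx hy =>
      refine ⟨(O Q).mul_mem hx.1 hy.1, ?_⟩
      have h1 : x * y * (x * y) = (x * x) * (x⁻¹ * (y * x * y⁻¹ * x⁻¹) * x) * (y * y) := by group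
      rw [h1]
      refine (E Q).mul_mem ((E Q).mul_mem hx.2 ?_) hy.2
      have h2 := hnorm x⁻¹ _ ((O Q).inv_mem hx.1) (hcomm y x hy.1 hx.1)
      rwa [inv_inv] at h2
    | inv x _ hx =>
      refine ⟨(O Q).inv_mem hx.1, ?_⟩
      rw [← _root_.mul_inv_rev]
      exact (E Q).inv_mem hx.2
  exact (key T hT).2

end sq

section torus

variable {F : Type*} [Field F] {m : ℕ} {L : Type*} [Field L] [Algebra F L]

/-- the algebra of the torus -/
noncomputable def Dg (b : Basis (Fin m) F L) : L × L →ₐ[F] Module.End F (Fin m ⊕ Fin m → F) where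
  toFun x := Matrix.toLin' (fromBlocks (Algebra.leftMulMatrix b x.1) 0 0 (Algebra.leftMulMatrix b x.2)ᵀ)
  map_one' := by
    rw [Prod.fst_one, Prod.snd_one, map_one, transpose_one, fromBlocks_one, Matrix.toLin'_one]
    rfl
  map_mul' x y := by
    rw [Module.End.mul_eq_comp, ← Matrix.toLin'_mul, fromBlocks_multiply, Prod.fst_mul, Prod.snd_mul, map_mul,
      mul_comm x.2 y.2, map_mul, transpose_mul]
    simp
  map_zero' := by
    rw [Prod.fst_zero, Prod.snd_zero, map_zero, transpose_zero, fromBlocks_zero, map_zero]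
  map_add' x y := by
    rw [← map_add, fromBlocks_add, Prod.fst_add, Prod.snd_add, map_add, map_add, transpose_add, add_zero]
  commutes' r := by
    have h1 : (algebraMap F (L × L) r).1 = algebraMap F L r := rfl
    have h2 : (algebraMap F (L × L) r).2 = algebraMap F L r := rfl
    rw [h1, h2, AlgHom.commutes]
    ext v i
    rw [LinearMap.comp_apply, LinearMap.comp_apply, Matrix.toLin'_apply, fromBlocks_mulVec,
      Module.algebraMap_end_apply]
    rcases i with i | i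
    · simp [Matrix.algebraMap_eq_diagonal, Matrix.mulVec_diagonal]
    · simp [Matrix.algebraMap_eq_diagonal, Matrix.mulVec_diagonal]

theorem Dg_apply (b : Basis (Fin m) F L) (x : L × L) (v : Fin m ⊕ Fin m → F) :
    Dg b x v = Sum.elim (Algebra.leftMulMatrix b x.1 *ᵥ (v ∘ Sum.inl))
      ((Algebra.leftMulMatrix b x.2)ᵀ *ᵥ (v ∘ Sum.inr)) := by
  show Matrix.toLin' (fromBlocks (Algebra.leftMulMatrix b x.1) 0 0 (Algebra.leftMulMatrix b x.2)ᵀ) v = _
  rw [Matrix.toLin'_apply, fromBlocks_mulVec]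
  simp only [zero_mulVec, add_zero, zero_add]

theorem Dg_fst_eq_zero (b : Basis (Fin m) F L) {x : L × L} (h : Dg b x = 0) : x.1 = 0 := by
  apply Algebra.leftMulMatrix_injective b
  rw [map_zero]
  have h1 : Matrix.toLin' (fromBlocks (Algebra.leftMulMatrix b x.1) 0 0 (Algebra.leftMulMatrix b x.2)ᵀ) = 0 := h
  have h2 := (Matrix.toLin' (R := F)).injective (h1.trans (map_zero _).symm)
  rw [← fromBlocks_zero] at h2
  exact (fromBlocks_inj.1 h2).1

/-- the torus -/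
noncomputable def lv (b : Basis (Fin m) F L) : Lˣ →* ((Fin m ⊕ Fin m → F) ≃ₗ[F] (Fin m ⊕ Fin m → F)) :=
  (glEquiv (Fin m ⊕ Fin m) F).toMonoidHom.comp ((leviGL m).comp (Units.map (Algebra.leftMulMatrix b : L →* _)))

theorem lv_eq (b : Basis (Fin m) F L) (ζ : Lˣ) :
    (lv b ζ : Module.End F (Fin m ⊕ Fin m → F)) = Dg b ((ζ : L), ((ζ⁻¹ : Lˣ) : L)) := by
  refine LinearMap.ext fun v => ?_
  rw [Dg_apply]
  show ((leviGL m (Units.map (Algebra.leftMulMatrix b : L →* _) ζ) : GL (Fin m ⊕ Fin m) F) :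
    Matrix (Fin m ⊕ Fin m) (Fin m ⊕ Fin m) F) *ᵥ v = _
  rw [coe_leviGL, fromBlocks_mulVec, ← map_inv]
  simp only [zero_mulVec, add_zero, zero_add]
  rfl

theorem lv_apply (b : Basis (Fin m) F L) (ζ : Lˣ) (v : Fin m ⊕ Fin m → F) :
    lv b ζ v = Dg b ((ζ : L), ((ζ⁻¹ : Lˣ) : L)) v := LinearMap.congr_fun (lv_eq b ζ) v

theorem lv_mem_O (b : Basis (Fin m) F L) (ζ : Lˣ) : lv b ζ ∈ O (plusForm m F) := by
  intro v
  have h := mem_isometryGroup_iff.1 (leviGL_mem m (Units.map (Algebra.leftMulMatrix b : L →* _) ζ)) v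
  rw [← coe_plusForm] at h
  exact h

theorem lv_injective (b : Basis (Fin m) F L) : Function.Injective (lv b) := by
  intro x y h
  have h1 : Dg b ((x : L), ((x⁻¹ : Lˣ) : L)) = Dg b ((y : L), ((y⁻¹ : Lˣ) : L)) := by rw [← lv_eq, ← lv_eq, h]
  have h2 : Dg b (((x : L), ((x⁻¹ : Lˣ) : L)) - ((y : L), ((y⁻¹ : Lˣ) : L))) = 0 := by rw [map_sub, h1, sub_self]
  exact Units.ext (sub_eq_zero.1 (Dg_fst_eq_zero b h2))

/-- the roots of the minimal polynomial twisted by a field automorphism -/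
theorem root_twist [Finite F] [Finite L] {p : ℕ} [Fact p.Prime] [CharP F p] {f : ℕ} (hF : Nat.card F = p ^ f)
    (σ : F ≃+* F) {y z : L} (h : aeval z ((minpoly F y).map (σ : F →+* F)) = 0) : ∃ t : ℕ, z = y ^ p ^ t := by
  have : CharP L p := charP_of_injective_algebraMap (algebraMap F L).injective p
  let _ : Algebra (ZMod p) F := ZMod.algebra F p
  -- the automorphism is a power of the Frobenius
  let g : Gal(F/ZMod p) := AlgEquiv.ofRingEquiv (f := σ) fun r => by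
    have h1 : (σ : F →+* F).comp (algebraMap (ZMod p) F) = algebraMap (ZMod p) F := Subsingleton.elim _ _
    exact congrArg (fun φ : ZMod p →+* F => φ r) h1
  obtain ⟨s, hs⟩ := FiniteField.exists_forall_apply_eq_pow (ZMod p) p F g
  have hσ : ∀ a : F, σ a = a ^ p ^ s := by
    intro a
    have h1 := hs a
    rwa [Nat.card_zmod] at h1
  -- the root is a power
  obtain ⟨z', rfl⟩ : ∃ z', iterateFrobenius L p s z' = z :=
    (Finite.injective_iff_surjective.1 (iterateFrobenius L p s).injective) z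
  have h2 : aeval (iterateFrobenius L p s z') ((minpoly F y).map (σ : F →+* F)) =
      iterateFrobenius L p s (aeval z' (minpoly F y)) := by
    rw [aeval_def, aeval_def, eval₂_map, hom_eval₂]
    congr 1
    ext a
    rw [RingHom.comp_apply, RingHom.comp_apply, iterateFrobenius_def]
    show algebraMap F L (σ a) = _
    rw [hσ, map_pow]
  rw [h2, map_eq_zero] at h
  have h3 := isConjRoot_of_aeval_eq_zero (Algebra.IsIntegral.isIntegral y) h
  obtain ⟨τ, hτ⟩ := isConjRoot_iff_exists_algEquiv.1 h3.symm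
  obtain ⟨k, hk⟩ := FiniteField.exists_forall_apply_eq_pow F p L τ
  refine ⟨f * k + s, ?_⟩
  rw [iterateFrobenius_def, ← hτ, hk, hF, ← pow_mul, ← pow_mul, ← pow_add]

/-- **semisimilitudes on the torus** -/
theorem lv_conj [Finite F] [Finite L] {p : ℕ} [Fact p.Prime] [CharP F p] {f : ℕ} (hF : Nat.card F = p ^ f)
    (b : Basis (Fin m) F L) {ζ₁ ζ₂ : Lˣ} {M : Equiv.Perm (Fin m ⊕ Fin m → F)} {σ : F ≃+* F} {c : F}
    (hM : IsSS (plusForm m F) σ c M) (h : ∀ v, M (lv b ζ₁ v) = lv b ζ₂ (M v)) :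
    ∃ t : ℕ, ζ₂ = ζ₁ ^ p ^ t ∨ ζ₂ = ζ₁⁻¹ ^ p ^ t := by
  have h1 : aeval (Dg b ((ζ₂ : L), ((ζ₂⁻¹ : Lˣ) : L)))
      ((minpoly F (ζ₁ : L) * minpoly F ((ζ₁⁻¹ : Lˣ) : L)).map (σ : F →+* F)) = 0 := by
    refine LinearMap.ext fun v => ?_
    obtain ⟨w, rfl⟩ := M.surjective v
    rw [← semi_aeval (g := Dg b ((ζ₁ : L), ((ζ₁⁻¹ : Lˣ) : L))) hM.add hM.smul (fun v => by
      rw [← lv_apply, ← lv_apply]; exact h v)]
    have h2 : aeval (Dg b ((ζ₁ : L), ((ζ₁⁻¹ : Lˣ) : L))) (minpoly F (ζ₁ : L) * minpoly F ((ζ₁⁻¹ : Lˣ) : L)) = 0 := by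
      rw [aeval_algHom_apply]
      have h3 : aeval ((ζ₁ : L), ((ζ₁⁻¹ : Lˣ) : L)) (minpoly F (ζ₁ : L) * minpoly F ((ζ₁⁻¹ : Lˣ) : L)) = 0 := by
        apply Prod.ext
        · have e := aeval_algHom_apply (AlgHom.fst F L L) ((ζ₁ : L), ((ζ₁⁻¹ : Lˣ) : L))
            (minpoly F (ζ₁ : L) * minpoly F ((ζ₁⁻¹ : Lˣ) : L))
          rw [AlgHom.fst_apply, AlgHom.fst_apply] at e
          rw [← e, map_mul, minpoly.aeval, zero_mul]
          rfl
        · have e := aeval_algHom_apply (AlgHom.snd F L L) ((ζ₁ : L), ((ζ₁⁻¹ : Lˣ) : L))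
            (minpoly F (ζ₁ : L) * minpoly F ((ζ₁⁻¹ : Lˣ) : L))
          rw [AlgHom.snd_apply, AlgHom.snd_apply] at e
          rw [← e, map_mul, minpoly.aeval F ((ζ₁⁻¹ : Lˣ) : L), mul_zero]
          rfl
      rw [h3, map_zero]
    rw [h2, LinearMap.zero_apply, LinearMap.zero_apply, hM.map_zero]
  rw [aeval_algHom_apply] at h1
  have h4 := Dg_fst_eq_zero b h1
  have e := aeval_algHom_apply (AlgHom.fst F L L) ((ζ₂ : L), ((ζ₂⁻¹ : Lˣ) : L))
    ((minpoly F (ζ₁ : L) * minpoly F ((ζ₁⁻¹ : Lˣ) : L)).map (σ : F →+* F))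
  rw [AlgHom.fst_apply, AlgHom.fst_apply, h4, Polynomial.map_mul, map_mul] at e
  rcases mul_eq_zero.1 e with e | e
  · obtain ⟨t, ht⟩ := root_twist hF σ e
    exact ⟨t, Or.inl (Units.ext (ht.trans (Units.val_pow_eq_pow_val _ _).symm))⟩
  · obtain ⟨t, ht⟩ := root_twist hF σ e
    exact ⟨t, Or.inr (Units.ext (ht.trans (Units.val_pow_eq_pow_val _ _).symm))⟩

end torus

end Cfsg.Agent.H964.Opm
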