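import Cfsg.Agent.H320.Der.Ntc
import Cfsg.Agent.H964.Opm.RowFour
import Cfsg.Agent.H964.Opm.Eight3

/-!
# S3502: the row `PΩ^+_8(q)`, `q ≥ 4`, `q ≠ 5`: three missing classes (helper964)
-/

set_option autoImplicit false

namespace Cfsg.Agent.H964.Opm

open Cfsg Cfsg.Agent.H439.Der Cfsg.Agent.OrdDiv Cfsg.Agent.H436 Cfsg.Agent.H264.FKS Cfsg.Agent.H915.GN
open Cfsg.Agent.H938.Sax (PGap N0)

variable {F : Type} [Field F] [Fintype F]

/-- **Every proper subgroup of `PΩ^+_8(q)`, `q ≥ 4`, `q ≠ 5`, has three missing classes.** -/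
theorem three_plus_four (tab : OrderTable.{0}) (hK : ∀ (X : Type) [Group X] [Finite X] [IsSimpleGroup X],
    Cfsg.IsKnownSimple' X) (hq : 4 ≤ Fintype.card F) (h5 : Fintype.card F ≠ 5)
    {R : Subgroup (POmega F (quadFormPlus 4 F))} (hR : R ≠ ⊤) : Three (POmega F (quadFormPlus 4 F)) R := by
  have hfin := finite_POmega (F := F) (quadFormPlus 4 F)
  rcases pgap_or_N0 tab hK hq hR with h | h
  · exact Three.of_pgap (Cfsg.Agent.H320.Der.ntc_plus_four (by rw [Nat.card_eq_fintype_card]; exact hq)) h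
  obtain ⟨p, f, hp, hf, hF, -⟩ := exists_pf F
  obtain ⟨d, A, B, hAB, hN⟩ := exists_AB hp hf (by rw [← hF]; exact hq)
  have hA : 17 ≤ A := by
    have h1 := hAB.hA
    have h2 : p ^ (2 * f) = p ^ f * p ^ f := by rw [← pow_add]; congr 1; ring
    rw [h2, ← hF] at h1
    rcases hAB.hd with ⟨rfl, -⟩ | ⟨rfl, ho⟩
    · have : 4 * 4 ≤ Fintype.card F * Fintype.card F := Nat.mul_le_mul hq hq
      omega
    · have h3 : Odd (Fintype.card F) := by rw [hF]; exact ho.pow
      obtain ⟨k, hk⟩ := h3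
      have h7 : 7 ≤ Fintype.card F := by omega
      have : 7 * 7 ≤ Fintype.card F * Fintype.card F := Nat.mul_le_mul h7 h7
      omega
  obtain ⟨x, y, z, hx, hy, hz, hxy, hxz, hyz⟩ := exists_three_AB (F := F) hp hF hAB hA
  rw [hN, ← hF] at hx hy hz
  have hG : Cfsg.Agent.LieClassical.OrthTrans.Good (Cfsg.Agent.LieClassical.OrthForms.plusForm 4 F) :=
    Cfsg.Agent.ClassicalGeometry.OrthSemiForms.good_plus (by norm_num)
  have key : ∀ R : Subgroup (POmega F ⇑(Cfsg.Agent.LieClassical.OrthForms.plusForm 4 F)),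
      (∀ m ∈ R, orderOf m ≠ N0 (Fintype.card F)) →
        Three (POmega F ⇑(Cfsg.Agent.LieClassical.OrthForms.plusForm 4 F)) R := by
    intro R h
    refine Three.congr
      (Cfsg.Agent.ClassicalGeometry.OrthSemiForms.pomegaEquiv hG).symm
      ⟨x, y, z, fun φ hφ => ?_, fun φ hφ => ?_, fun φ hφ => ?_, hxy, hxz, hyz⟩
    · refine h _ hφ ?_
      rw [MulEquiv.coe_toMonoidHom, MulEquiv.orderOf_eq, MulEquiv.orderOf_eq, hx]
    · refine h _ hφ ?_
      rw [MulEquiv.coe_toMonoidHom, MulEquiv.orderOf_eq, MulEquiv.orderOf_eq, hy]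
    · refine h _ hφ ?_
      rw [MulEquiv.coe_toMonoidHom, MulEquiv.orderOf_eq, MulEquiv.orderOf_eq, hz]
  rw [Cfsg.Agent.LieClassical.OrthForms.coe_plusForm] at key
  exact key R h

/-- the strong row -/
theorem rowS_oplus_four (tab : OrderTable.{0}) (hK : ∀ (X : Type) [Group X] [Finite X] [IsSimpleGroup X],
    Cfsg.IsKnownSimple' X) (hq : 4 ≤ Fintype.card F) (h5 : Fintype.card F ≠ 5) :
    RowS (POmega F (quadFormPlus 4 F)) := by
  have hfin := finite_POmega (F := F) (quadFormPlus 4 F)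
  exact RowS.of_three fun M hM => three_plus_four tab hK hq h5 hM.1

end Cfsg.Agent.H964.Opm
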